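import Groth.Agent.FlatMorSlice.CM
import Mathlib.RingTheory.Ideal.Operations

/-!
# Parameters of a Cohen–Macaulay fibre ring taken from a given ideal
-/

set_option autoImplicit false
set_option backward.isDefEq.respectTransparency false

universe u

noncomputable section

open Function

namespace Groth.Agent.Stk19b.QDMSlice

open FlatMorSlice IsLocalRing

variable {R C : Type u} [CommRing R] [IsNoetherianRing R] [IsLocalRing R] [CommRing C]

/-- Elements of an ideal with primary image, chosen so that the dimension drops at each step. -/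
theorem exists_params (φ : C →+* R) (𝔲 : Ideal C)
    (h𝔲 : ∀ P : Ideal R, P.IsPrime → 𝔲.map φ ≤ P → P = maximalIdeal R) (n : ℕ) (hn : ringKrullDim R ≤ n) :
    ∃ β : Fin n → C, (∀ i, β i ∈ 𝔲) ∧
      ∀ P : Ideal R, P.IsPrime → (∀ i, φ (β i) ∈ P) → P = maximalIdeal R := by
  classical
  suffices ∀ i ≤ n, ∃ β : Fin i → C, (∀ j, β j ∈ 𝔲) ∧
      ∀ l : LTSeries (PrimeSpectrum R), (∀ j, φ (β j) ∈ l.head.asIdeal) → l.length + i ≤ n by
    obtain ⟨β, hβ, h⟩ := this n le_rfl
    refine ⟨β, hβ, fun P hP hPβ => ?_⟩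
    by_contra hne
    have hlt : (⟨P, hP⟩ : PrimeSpectrum R) < closedPoint R :=
      lt_of_le_of_ne (le_maximalIdeal hP.ne_top) fun e => hne (congrArg PrimeSpectrum.asIdeal e)
    have := h (RelSeries.cons (RelSeries.singleton _ (closedPoint R)) ⟨P, hP⟩ hlt) fun j => by
      rw [RelSeries.head_cons]; exact hPβ j
    rw [RelSeries.cons_length] at this
    omega
  intro i
  induction i with
  | zero =>
    intro _
    refine ⟨Fin.elim0, fun j => j.elim0, fun l _ => ?_⟩
    have := (Order.LTSeries.length_le_krullDim l).trans hn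
    rw [Nat.add_zero]
    exact_mod_cast this
  | succ i ih =>
    intro hi
    obtain ⟨β, hβ, h⟩ := ih (Nat.le_of_succ_le hi)
    let I := Ideal.span (Set.range fun j => φ (β j))
    let M := (I.minimalPrimes \ {maximalIdeal R})
    have hM : M.Finite := (Ideal.finite_minimalPrimes_of_isNoetherianRing R I).subset Set.sdiff_subset
    obtain ⟨f, hf, hfM⟩ : ∃ f ∈ 𝔲, ∀ P ∈ M, φ f ∉ P := by
      by_contra! hcon
      have hsub : (𝔲 : Set C) ⊆ ⋃ P ∈ (M : Set (Ideal R)), (P.comap φ : Set C) := fun x hx => by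
        obtain ⟨P, hP, hxP⟩ := hcon x hx
        exact Set.mem_biUnion hP hxP
      obtain ⟨P, hP, hle⟩ := (Ideal.subset_union_prime_finite hM ⊥ ⊥
        fun P hP _ _ => (hP.1.1.1).comap φ).1 hsub
      exact hP.2 (h𝔲 P hP.1.1.1 (Ideal.map_le_iff_le_comap.2 hle))
    refine ⟨Fin.snoc β f, fun j => ?_, fun l hl => ?_⟩
    · induction j using Fin.lastCases with
      | last => rwa [Fin.snoc_last]
      | cast j => rw [Fin.snoc_castSucc]; exact hβ j
    · have hlI : I ≤ l.head.asIdeal := Ideal.span_le.2 (by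
        rintro _ ⟨j, rfl⟩
        have := hl j.castSucc
        rwa [Fin.snoc_castSucc] at this)
      obtain ⟨P, hP, hPl⟩ := Ideal.exists_minimalPrimes_le hlI
      have hlf : φ f ∈ l.head.asIdeal := by
        have := hl (Fin.last i)
        rwa [Fin.snoc_last] at this
      by_cases hPm : P = maximalIdeal R
      · have : l.length = 0 := by
          by_contra hl0
          refine (lt_irrefl (closedPoint R)) (lt_of_le_of_lt (hPm ▸ hPl : maximalIdeal R ≤ _) ?_)
          exact lt_of_lt_of_le (l.strictMono (show (0 : Fin (l.length + 1)) < Fin.last _ from by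
            rw [Fin.lt_def]; simp; omega)) (le_maximalIdeal l.last.2.ne_top)
        omega
      · have hlt : (⟨P, hP.1.1⟩ : PrimeSpectrum R) < l.head :=
          lt_of_le_not_ge hPl fun hle => hfM P ⟨hP, hPm⟩ (hle hlf)
        have := h (RelSeries.cons l ⟨P, hP.1.1⟩ hlt) fun j => by
          rw [RelSeries.head_cons]
          exact hP.1.2 (Ideal.subset_span ⟨j, rfl⟩)
        rw [RelSeries.cons_length] at this
        omega

/-- Parameters of a Cohen–Macaulay fibre ring form a regular sequence on the fibre. -/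
theorem fibReg_of_params [LocCoh.IsCohenMacaulayLocalRing R] {A B : Type u} [CommRing A] [CommRing B]
    [Algebra A B] {q : Ideal B} [q.IsPrime] {ψ : B →+* R} (h : FibPres A q ψ) {n : ℕ} (β : Fin n → B)
    (hgm : ∀ i, ψ (β i) ∈ maximalIdeal R) (hn' : ringKrullDim R = n)
    (hm : ∀ J : Ideal R, J.IsPrime → (∀ i, ψ (β i) ∈ J) → J = maximalIdeal R) :
    FibReg A q (List.ofFn β) := by
  classical
  let g : Fin n → R := fun i => ψ (β i)
  have hn : ringKrullDim R = Fintype.card (Fin n) := by rw [Fintype.card_fin]; exact hn'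
  have hdim : ringKrullDim (R ⧸ Ideal.span (Set.range g)) = 0 := by
    have hle : Ideal.span (Set.range g) ≤ maximalIdeal R := Ideal.span_le.2 (by
      rintro _ ⟨i, rfl⟩; exact hgm i)
    have : Nontrivial (R ⧸ Ideal.span (Set.range g)) := Ideal.Quotient.nontrivial_iff.2 fun hh =>
      (IsLocalRing.maximalIdeal.isMaximal R).ne_top (top_le_iff.1 (hh ▸ hle))
    have : Ring.KrullDimLE 0 (R ⧸ Ideal.span (Set.range g)) := Ring.krullDimLE_zero_iff.2 fun J hJ => by
      have := hm (J.comap (Ideal.Quotient.mk _)) inferInstance (fun i => by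
        rw [Ideal.mem_comap, Ideal.Quotient.eq_zero_iff_mem.2 (show g i ∈ Ideal.span (Set.range g) from Ideal.subset_span ⟨i, rfl⟩)]; exact J.zero_mem)
      rw [← Ideal.map_comap_of_surjective _ Ideal.Quotient.mk_surjective J, this]
      exact (Ideal.map_eq_top_or_isMaximal_of_surjective _ Ideal.Quotient.mk_surjective
        inferInstance).resolve_left fun h' => hJ.ne_top (by
          rw [← Ideal.map_comap_of_surjective _ Ideal.Quotient.mk_surjective J, this, h'])
    exact ringKrullDimZero_iff_ringKrullDim_eq_zero.1 inferInstance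
  intro i hi x hx
  have hi' : i < n := by simpa using hi
  let t : Finset (Fin n) := Finset.univ.filter (fun j => (j : ℕ) < i)
  have hmap : (Ideal.ofList ((List.ofFn fun i => β i).take i)).map ψ =
      Ideal.span (g '' (t : Set (Fin n))) := by
    rw [Ideal.map_ofList]
    refine congrArg Ideal.span (Set.ext fun y => ?_)
    simp only [Set.mem_ofPred_eq, List.mem_map, List.mem_take_iff_getElem, List.getElem_ofFn,
      List.length_ofFn, Set.mem_image, Finset.mem_coe, t, Finset.mem_filter, Finset.mem_univ, true_and]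
    constructor
    · rintro ⟨_, ⟨j, hj, rfl⟩, rfl⟩
      exact ⟨⟨j, by omega⟩, by simp; omega, rfl⟩
    · rintro ⟨⟨j, hj⟩, hji, rfl⟩
      exact ⟨_, ⟨j, by simp at hji; omega, rfl⟩, rfl⟩
  have hreg := CAlgH3.isSMulRegular_of_isSystemOfParameters g hgm hn hdim t ⟨i, hi'⟩ (by simp [t])
  rw [← h.mem_map_iff, map_mul, hmap, List.getElem_ofFn] at hx
  rw [← h.mem_map_iff, hmap, ← Ideal.Quotient.eq_zero_iff_mem]
  refine hreg ?_
  simp only [Algebra.smul_def, Ideal.Quotient.algebraMap_eq, mul_zero]
  rw [← map_mul]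
  exact Ideal.Quotient.eq_zero_iff_mem.2 hx

end Groth.Agent.Stk19b.QDMSlice
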