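import Groth.Agent.Stk19b.QDMSlice.Locus
import Groth.Agent.Stk19b.QDMSlice.Params
import Groth.Agent.FlatMorSlice.Bridge
import Groth.Agent.CMBC25.Fibre
import Groth.Agent.Stk19b.Fppf.Slice

/-!
# Slices through a given Cohen–Macaulay point
-/

set_option autoImplicit false
set_option linter.style.haveILetI false
set_option backward.isDefEq.respectTransparency false
set_option backward.isDefEq.respectTransparency.types false

universe u

open CategoryTheory CategoryTheory.Limits AlgebraicGeometry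

noncomputable section

namespace Groth.Agent.Stk19b.QDMSlice

open FlatMorSlice

variable {U W S₀ : Scheme.{u}} (p q : W ⟶ U) [Flat p] [LocallyOfFinitePresentation p]
  [Flat q] [LocallyOfFinitePresentation q] (s : U ⟶ S₀) (hw : p ≫ s = q ≫ s)
  (hqf : LocallyQuasiFinite (pullback.lift p q hw))

set_option maxHeartbeats 1600000 in
include hqf in
/-- A flat quasi-finite slice through a point `u` closed in an affine open, cut out by parameters
of the Cohen–Macaulay fibre at a rational point `w` over it. -/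
theorem exists_slice_at {W₀ : U.Opens} (hW : IsAffineOpen W₀) (u : U) (huW : u ∈ W₀)
    (hu : (hW.primeIdealOf ⟨u, huW⟩).asIdeal.IsMaximal) (w : W) (hpw : p w = u) (hqw : q w = u)
    (hres : ∀ (V : W.Opens) (hV : IsAffineOpen V) (hwV : w ∈ V) (e : V ≤ p ⁻¹ᵁ W₀) (b : Γ(W, V)),
      ∃ a, b - p.appLE W₀ V e a ∈ (hV.primeIdealOf ⟨w, hwV⟩).asIdeal)
    (hcm : CMBC25.FibCM p w) :
    ∃ (Z : Scheme.{u}) (g : Z ⟶ U) (x : ↥(pullback q g)), IsAffine Z ∧
      IsImmersion g ∧ LocallyOfFinitePresentation g ∧ g (pullback.snd q g x) = u ∧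
      τ p q g x = u ∧ LocallyOfFinitePresentation (τ p q g) ∧
      ((τ p q g).stalkMap x).hom.Flat ∧ (τ p q g).QuasiFiniteAt x := by
  obtain ⟨_, ⟨V, hV', rfl⟩, hwV, hVle⟩ := W.isBasis_affineOpens.exists_subset_of_mem_open
    (show w ∈ p ⁻¹ᵁ W₀ ⊓ q ⁻¹ᵁ W₀ from ⟨by show p w ∈ W₀; rwa [hpw], by show q w ∈ W₀; rwa [hqw]⟩)
    (p ⁻¹ᵁ W₀ ⊓ q ⁻¹ᵁ W₀).isOpen
  have hV : IsAffineOpen (X := W) V := hV'
  have ep : V ≤ p ⁻¹ᵁ W₀ := fun z hz => (hVle hz).1
  have eq' : V ≤ q ⁻¹ᵁ W₀ := fun z hz => (hVle hz).2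
  let A := Γ(U, W₀)
  let B := Γ(W, V)
  let χ : A →+* B := (q.appLE W₀ V eq').hom
  letI : Algebra A B := (p.appLE W₀ V ep).hom.toAlgebra
  have : Algebra.FinitePresentation A B :=
    LocallyOfFinitePresentation.finitePresentation_appLE p hW hV ep
  let qp := (hV.primeIdealOf ⟨w, hwV⟩).asIdeal
  let 𝔭 := (hW.primeIdealOf ⟨u, huW⟩).asIdeal
  haveI : 𝔭.IsMaximal := hu
  have hqpA : qp.comap (algebraMap A B) = 𝔭 := by
    have h := IsAffineOpen.comap_primeIdealOf_appLE W₀ hW V hV ep hwV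
    have : (⟨p w, ep hwV⟩ : W₀) = ⟨u, huW⟩ := Subtype.ext hpw
    rw [this] at h
    exact congrArg PrimeSpectrum.asIdeal h
  have hqpC : qp.comap χ = 𝔭 := by
    have h := IsAffineOpen.comap_primeIdealOf_appLE W₀ hW V hV eq' hwV
    have : (⟨q w, eq' hwV⟩ : W₀) = ⟨u, huW⟩ := Subtype.ext hqw
    rw [this] at h
    exact congrArg PrimeSpectrum.asIdeal h
  have hqmax : qp.IsMaximal := by
    refine Ideal.isMaximal_def.2 ⟨(hV.primeIdealOf ⟨w, hwV⟩).2.ne_top, fun J hJ => ?_⟩
    obtain ⟨b, hbJ, hb⟩ := SetLike.exists_of_lt hJ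
    obtain ⟨a, ha⟩ := hres V hV hwV ep b
    have ha𝔭 : a ∉ 𝔭 := fun h => hb (by
      rw [← hqpA] at h
      have := qp.add_mem ha h
      rwa [show algebraMap A B a = p.appLE W₀ V ep a from rfl, sub_add_cancel] at this)
    obtain ⟨y, m, hm, hym⟩ := Ideal.IsMaximal.exists_inv hu (x := a) ha𝔭
    rw [Ideal.eq_top_iff_one, ← map_one (algebraMap A B), ← hym, map_add, map_mul]
    refine J.add_mem (J.mul_mem_left _ ?_) (hJ.le ?_)
    · have : algebraMap A B a = b - (b - algebraMap A B a) := by ring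
      rw [this]
      exact J.sub_mem hbJ (hJ.le ha)
    · show algebraMap A B m ∈ qp
      rw [← Ideal.mem_comap, hqpA]; exact hm
  -- the chart inside the slice by the open itself
  let c : Spec (CommRingCat.of A) ⟶ (W₀ : Scheme.{u}) := hW.isoSpec.inv
  have hc : c ≫ W₀.ι = hW.fromSpec := hW.isoSpec_inv_ι
  have hqV : hV.fromSpec ≫ q = Spec.map (CommRingCat.ofHom χ) ≫ c ≫ W₀.ι := by
    rw [hc, ← hW.SpecMap_appLE_fromSpec q hV eq']; rfl
  let ι : Spec (CommRingCat.of B) ⟶ pullback q W₀.ι :=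
    pullback.lift hV.fromSpec (Spec.map (CommRingCat.ofHom χ) ≫ c) (by rw [Category.assoc]; exact hqV)
  have : IsOpenImmersion (ι ≫ pullback.fst q W₀.ι) := by rw [pullback.lift_fst]; infer_instance
  have : IsOpenImmersion ι := IsOpenImmersion.of_comp ι (pullback.fst q W₀.ι)
  have hιp : ι ≫ τ p q W₀.ι = Spec.map (CommRingCat.ofHom (algebraMap A B)) ≫ hW.fromSpec := by
    rw [τ, ← Category.assoc, pullback.lift_fst, ← hW.SpecMap_appLE_fromSpec p hV ep]
    rfl
  letI algC : Algebra A B := (p.appLE W₀ V ep).hom.toAlgebra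
  obtain ⟨R₀, iR₀, ρ, hρ, hgen⟩ := exists_quasiFinite_tensor p q s hw hqf W₀.ι (algebraMap A B) χ
    hW.fromSpec c ι hιp (pullback.lift_snd _ _ _)
  -- parameters
  obtain ⟨ψ, hψ⟩ := exists_fibPres p hW hV ep hwV
  let R := (p.fiber (p w)).presheaf.stalk (p.asFiber w)
  haveI : LocCoh.IsCohenMacaulayLocalRing R := by
    have h := CMBC25.isCM_fiber_stalk_iff p (p w) (p.asFiber w)
    rw [Scheme.Hom.fiberι_asFiber] at h
    exact h.2 hcm
  haveI : IsNoetherianRing R := by
    have : Algebra.FiniteType A B := inferInstance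
    exact inferInstance
  have hiso : ∀ r : Ideal B, r.IsPrime → r ≤ qp →
      (qp.comap (algebraMap A B)).map (algebraMap A B) ≤ r → 𝔭.map χ ≤ r → r = qp := by
    intro r hr hrq hrA hrC
    letI : Algebra A B := algC
    have h1 : r.comap (algebraMap A B) = qp.comap (algebraMap A B) :=
      le_antisymm (Ideal.comap_mono hrq) (Ideal.map_le_iff_le_comap.1 hrA)
    have h2 : r.comap χ = qp.comap χ :=
      le_antisymm (Ideal.comap_mono hrq) (hqpC ▸ Ideal.map_le_iff_le_comap.1 hrC)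
    have hm' : (qp.comap (algebraMap A B)).IsMaximal := by rw [hqpA]; exact hu
    have hft : χ.FiniteType := LocallyOfFiniteType.finiteType_appLE q hW hV eq'
    exact @eq_of_le_of_quasiFinite A B A _ _ _ algC χ.toAlgebra (Algebra.FiniteType.of_finitePresentation) hft
      R₀ iR₀ ρ hρ hgen r qp hr hqmax hrq hm' h1 h2
  have h𝔲 : ∀ P : Ideal R, P.IsPrime → 𝔭.map (ψ.comp χ) ≤ P → P = IsLocalRing.maximalIdeal R := by
    intro P hP hle
    have hrq : P.comap ψ ≤ qp := fun b hb => hψ.mem_of_mem_maximalIdeal (IsLocalRing.le_maximalIdeal hP.ne_top hb)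
    have e := hiso _ (hP.comap ψ) hrq (fun b hb => by
      show ψ b ∈ P
      rw [RingHom.mem_ker.1 (hψ.le_ker hb)]; exact P.zero_mem)
      (Ideal.map_le_iff_le_comap.2 fun a ha => hle (Ideal.mem_map_of_mem _ ha))
    refine le_antisymm (IsLocalRing.le_maximalIdeal hP.ne_top) fun r hr => ?_
    obtain ⟨b, c, hc, hbc⟩ := hψ.surj r
    have hbq : b ∈ qp := hψ.mem_of_mem_maximalIdeal (by rw [← hbc]; exact Ideal.mul_mem_right _ _ hr)
    rw [← e, Ideal.mem_comap, ← hbc] at hbq
    exact (hP.mem_or_mem hbq).resolve_right fun h' => hP.ne_top (Ideal.eq_top_of_isUnit_mem _ h' (hψ.unit c hc))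
  obtain ⟨n, hn⟩ : ∃ n : ℕ, ringKrullDim R = n := by
    obtain ⟨m, hm⟩ := WithBot.ne_bot_iff_exists.1 (ringKrullDim_ne_bot (R := R))
    have htop : m ≠ ⊤ := fun e => by
      have := ringKrullDim_lt_top (R := R)
      rw [← hm, e] at this
      exact lt_irrefl _ this
    obtain ⟨k, rfl⟩ := ENat.ne_top_iff_exists.1 htop
    exact ⟨k, hm.symm⟩
  obtain ⟨β, hβ, hβm⟩ := exists_params (ψ.comp χ) 𝔭 h𝔲 n hn.le
  let βB : Fin n → B := fun i => χ (β i)
  have hβq : ∀ i, βB i ∈ qp := fun i => by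
    show β i ∈ qp.comap χ
    rw [hqpC]; exact hβ i
  have hgm : ∀ i, ψ (βB i) ∈ IsLocalRing.maximalIdeal R := fun i hu' => by
    obtain ⟨v, hv⟩ := hu'
    obtain ⟨b₁, c₁, hc₁, hb₁⟩ := hψ.surj (↑v⁻¹ : R)
    have h0 : ψ (βB i * b₁ - c₁) = 0 := by
      rw [map_sub, map_mul, ← hb₁, ← hv, Units.mul_inv_cancel_left, sub_self]
    obtain ⟨d, hd, hdm⟩ := hψ.ker _ h0
    have : βB i * b₁ - c₁ ∈ qp := ((hV.primeIdealOf ⟨w, hwV⟩).2.mem_or_mem
      (Ideal.map_comap_le hdm : d * (βB i * b₁ - c₁) ∈ qp)).resolve_left hd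
    exact hc₁ (by simpa using qp.sub_mem (qp.mul_mem_right b₁ (hβq i)) this)
  have hreg := fibReg_of_params hψ βB hgm hn hβm
  let rs := List.ofFn βB
  obtain ⟨c₀, hc₀, h₁, h₂⟩ := exists_regular_sequence (A := A) ⟨qp, inferInstance⟩
    (flat_localized_of_stalkMap p hW hV ep hwV (Flat.stalkMap p w)) rs hreg
  -- the closed subscheme
  let J : Ideal A := Ideal.span (Set.range β)
  let JB : Ideal B := J.map χ
  have hJB : JB = Ideal.ofList rs := by
    show J.map χ = _
    rw [Ideal.map_span, Ideal.ofList]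
    refine congrArg Ideal.span (Set.ext fun y => ?_)
    simp [rs, βB, List.mem_ofFn]
  have hJle : JB ≤ qp := hJB ▸ Ideal.span_le.2 fun y hy => by
    obtain ⟨i, rfl⟩ := List.mem_ofFn.1 hy
    exact hβq i
  let C₁ := CommRingCat.of (A ⧸ J)
  let mkC : CommRingCat.of A ⟶ C₁ := CommRingCat.ofHom (Ideal.Quotient.mk J)
  let l₁ : Spec C₁ ⟶ (W₀ : Scheme.{u}) := Spec.map mkC ≫ c
  have : IsClosedImmersion (Spec.map mkC) := IsClosedImmersion.spec_of_surjective _ Ideal.Quotient.mk_surjective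
  have : LocallyOfFinitePresentation (Spec.map mkC) :=
    (HasRingHomProperty.Spec_iff (P := @LocallyOfFinitePresentation)).2
      (RingHom.FinitePresentation.of_surjective _ Ideal.Quotient.mk_surjective
        (by rw [CommRingCat.hom_ofHom, Ideal.mk_ker]; exact Submodule.fg_span (Set.finite_range β)))
  have : LocallyOfFinitePresentation l₁ := inferInstanceAs (LocallyOfFinitePresentation (_ ≫ _))
  have : LocallyOfFinitePresentation (τ p q W₀.ι) :=
    inferInstanceAs (LocallyOfFinitePresentation (pullback.fst q W₀.ι ≫ p))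
  let g := l₁ ≫ W₀.ι
  have hgp : LocallyOfFinitePresentation (τ p q g) := lfp_τ_comp p q W₀.ι l₁
  obtain ⟨k₁, hk₁, hk₁U⟩ := exists_isPullback_comp p q W₀.ι l₁
  let χ₁ : A ⧸ J →+* B ⧸ JB := Ideal.quotientMap JB χ Ideal.le_comap_map
  let mkB : CommRingCat.of B ⟶ CommRingCat.of (B ⧸ JB) := CommRingCat.ofHom (Ideal.Quotient.mk JB)
  have sqB : IsPullback (Spec.map mkB) (Spec.map (CommRingCat.ofHom χ₁)) (Spec.map (CommRingCat.ofHom χ) ≫ c) l₁ := by
    have hpo : IsPushout mkC (CommRingCat.ofHom χ) (CommRingCat.ofHom χ₁) mkB := by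
      refine IsPushout.of_isColimit' ⟨by ext a; rfl⟩ (PushoutCocone.isColimitAux' _ fun t => ?_)
      have hle : JB ≤ RingHom.ker t.inr.hom := Ideal.map_le_iff_le_comap.2 fun a ha => by
        show t.inr.hom (χ a) = 0
        rw [show t.inr.hom (χ a) = (CommRingCat.ofHom χ ≫ t.inr).hom a from rfl, ← t.condition]
        show t.inl.hom (Ideal.Quotient.mk J a) = 0
        rw [Ideal.Quotient.eq_zero_iff_mem.2 ha, map_zero]
      refine ⟨CommRingCat.ofHom (Ideal.Quotient.lift _ t.inr.hom fun b hb => hle hb), ?_, ?_, fun {m} h₁ h₂ => ?_⟩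
      · ext a
        exact (RingHom.congr_fun (congrArg CommRingCat.Hom.hom t.condition) a).symm
      · ext b; rfl
      · exact CommRingCat.hom_ext (Ideal.Quotient.ringHom_ext (congrArg CommRingCat.Hom.hom h₂))
    have h2 := (isPullback_SpecMap_of_isPushout _ _ _ _ hpo).flip.paste_vert (IsPullback.of_vert_isIso
      (fst := Spec.map mkC) (snd := 𝟙 _) (f := c) (g := l₁) ⟨by simp [l₁]⟩)
    rwa [Category.comp_id] at h2
  let ι₁ : Spec (CommRingCat.of (B ⧸ JB)) ⟶ pullback q g :=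
    hk₁.lift (Spec.map mkB ≫ ι) (Spec.map (CommRingCat.ofHom χ₁)) (by
      rw [Category.assoc, pullback.lift_snd]; exact sqB.w)
  have sqι : IsPullback (Spec.map mkB) ι₁ ι k₁ := by
    refine IsPullback.of_bot ?_ (hk₁.lift_fst _ _ _).symm hk₁
    rw [hk₁.lift_snd, pullback.lift_snd]; exact sqB
  have : IsOpenImmersion ι₁ := MorphismProperty.of_isPullback (P := @IsOpenImmersion) sqι ‹IsOpenImmersion ι›
  have hι₁ : ι₁ ≫ τ p q g = Spec.map (CommRingCat.ofHom (algebraMap A (B ⧸ JB))) ≫ hW.fromSpec := by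
    rw [← hk₁U, reassoc_of% (hk₁.lift_fst _ _ _ : ι₁ ≫ k₁ = _), hιp, ← Spec.map_comp_assoc]
    rfl
  -- properties at the point
  let r' : Ideal (B ⧸ JB) := qp.map (Ideal.Quotient.mk JB)
  have : r'.IsPrime := Ideal.map_isPrime_of_surjective Ideal.Quotient.mk_surjective (by rwa [Ideal.mk_ker])
  have hr' : r'.comap (Ideal.Quotient.mk JB) = qp := by
    rw [Ideal.comap_map_of_surjective _ Ideal.Quotient.mk_surjective, ← RingHom.ker_eq_comap_bot,
      Ideal.mk_ker, sup_eq_left.2 hJle]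
  haveI : Algebra.FinitePresentation A (B ⧸ JB) := Algebra.FinitePresentation.quotient
    (Ideal.FG.map (I := J) (Submodule.fg_span (Set.finite_range β)) χ)
  have hover : ∀ r : Ideal (B ⧸ JB), r.comap (algebraMap A (B ⧸ JB)) =
      (r.comap (Ideal.Quotient.mk JB)).comap (algebraMap A B) := fun r => by rw [Ideal.comap_comap]; rfl
  haveI hQF : Algebra.QuasiFiniteAt A r' := by
    refine quasiFiniteAt_of_isolated r' (fun r hr hle _ => ?_) (fun r hr hle he => ?_)
    · have hrq : r.comap (Ideal.Quotient.mk JB) = qp :=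
        (hqmax.eq_of_le (hr.comap _).ne_top (hr' ▸ Ideal.comap_mono hle)).symm
      show r = r'
      rw [← Ideal.map_comap_of_surjective _ Ideal.Quotient.mk_surjective r, hrq]
    · let r₀ := r.comap (Ideal.Quotient.mk JB)
      have hr₀q : r₀ ≤ qp := hr' ▸ Ideal.comap_mono hle
      have hJr₀ : JB ≤ r₀ := fun x hx => by
        rw [Ideal.mem_comap, Ideal.Quotient.eq_zero_iff_mem.2 hx]; exact r.zero_mem
      have hpr₀ : (qp.comap (algebraMap A B)).map (algebraMap A B) ≤ r₀ := by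
        rw [Ideal.map_le_iff_le_comap, ← hover, he, hover, hr']
      have hrq : r₀ = qp := by
        refine le_antisymm hr₀q fun b hb => ?_
        have hbm : ψ b ∈ (Ideal.span (Set.range fun i => ψ (βB i))).radical := by
          rw [Ideal.radical_eq_sInf]
          refine Submodule.mem_sInf.2 fun P hP => ?_
          rw [hβm P hP.2 fun i => hP.1 (Ideal.subset_span ⟨i, rfl⟩)]
          intro hu'
          obtain ⟨v, hv⟩ := hu'
          obtain ⟨b₁, c₁, hc₁, hb₁⟩ := hψ.surj (↑v⁻¹ : R)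
          have h0 : ψ (b * b₁ - c₁) = 0 := by
            rw [map_sub, map_mul, ← hb₁, ← hv, Units.mul_inv_cancel_left, sub_self]
          obtain ⟨d, hd, hdm⟩ := hψ.ker _ h0
          have : b * b₁ - c₁ ∈ qp := ((hV.primeIdealOf ⟨w, hwV⟩).2.mem_or_mem
            (Ideal.map_comap_le hdm : d * (b * b₁ - c₁) ∈ qp)).resolve_left hd
          exact hc₁ (by simpa using qp.sub_mem (qp.mul_mem_right b₁ hb) this)
        obtain ⟨N, hN⟩ := hbm
        rw [← map_pow, show Ideal.span (Set.range fun i => ψ (βB i)) = JB.map ψ by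
          rw [hJB, Ideal.map_ofList, Ideal.ofList]
          refine congrArg Ideal.span (Set.ext fun y => ?_)
          simp [rs, List.mem_ofFn]
          exact Iff.rfl, hψ.mem_map_iff] at hN
        obtain ⟨d, hd, hdb⟩ := hN
        exact (hr.comap _).mem_of_pow_mem N (((hr.comap _).mem_or_mem (sup_le hpr₀ hJr₀ hdb)).resolve_left
          fun hdr => hd (hr₀q hdr))
      show r = r'
      rw [← Ideal.map_comap_of_surjective _ Ideal.Quotient.mk_surjective r, show r.comap _ = qp from hrq]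
  -- flat near the point
  let L := Localization.Away c₀
  have hflat := (isWeaklyRegular_and_flat_away (A := A) rs h₁ h₂ (dvd_refl c₀) L).2
  let π₁ : B ⧸ JB →+* L ⧸ (Ideal.ofList rs).map (algebraMap B L) :=
    Ideal.quotientMap _ (algebraMap B L) (hJB ▸ Ideal.le_comap_map)
  let z₀ : PrimeSpectrum (B ⧸ JB) := ⟨r', inferInstance⟩
  let pt : ↥(pullback q g) := ι₁ z₀
  have hfl : ((τ p q g).stalkMap pt).hom.Flat := by
    have hc₀' : Ideal.Quotient.mk JB c₀ ∉ r' := fun h' => hc₀ (by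
      show c₀ ∈ qp
      rw [← hr']; exact h')
    let d := Ideal.Quotient.mk JB c₀
    let D := Localization.Away d
    let je : Spec (CommRingCat.of D) ⟶ Spec (CommRingCat.of (B ⧸ JB)) :=
      Spec.map (CommRingCat.ofHom (algebraMap (B ⧸ JB) D))
    have : IsOpenImmersion je := IsOpenImmersion.of_isLocalization d
    have : Module.Flat A D := by
      haveI : IsLocalization.Away d (L ⧸ JB.map (algebraMap B L)) := by
        have h : IsLocalization (Algebra.algebraMapSubmonoid (B ⧸ JB) (Submonoid.powers c₀))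
            (L ⧸ JB.map (algebraMap B L)) := inferInstance
        rwa [Algebra.algebraMapSubmonoid, Submonoid.map_powers] at h
      haveI : IsScalarTower A (B ⧸ JB) (L ⧸ JB.map (algebraMap B L)) := .of_algebraMap_eq fun _ => rfl
      have : Module.Flat A (L ⧸ JB.map (algebraMap B L)) := by rw [hJB]; exact hflat
      exact Module.Flat.of_linearEquiv
        ((IsLocalization.algEquiv (Submonoid.powers d) D (L ⧸ JB.map (algebraMap B L))).restrictScalars A).toLinearEquiv
    obtain ⟨y₀, hy₀⟩ : z₀ ∈ Set.range je := by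
      rw [show (Set.range je : Set (PrimeSpectrum (B ⧸ JB))) = PrimeSpectrum.basicOpen d from
        PrimeSpectrum.localization_away_comap_range _ d]
      exact hc₀'
    have hFl : Flat ((je ≫ ι₁) ≫ τ p q g) := by
      rw [Category.assoc, hι₁, ← Category.assoc, ← Spec.map_comp]
      have : Flat (Spec.map (CommRingCat.ofHom (algebraMap A (B ⧸ JB)) ≫ CommRingCat.ofHom (algebraMap (B ⧸ JB) D))) := by
        refine (HasRingHomProperty.Spec_iff (P := @Flat)).2 ?_
        rw [← CommRingCat.ofHom_comp, ← IsScalarTower.algebraMap_eq]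
        exact RingHom.flat_algebraMap_iff.2 ‹_›
      exact MorphismProperty.comp_mem @Flat _ _ this inferInstance
    rw [show pt = (je ≫ ι₁) y₀ by rw [Scheme.Hom.comp_apply, hy₀]]
    exact (Desc19b.flat_stalkMap_comp_iff (je ≫ ι₁) _ y₀ (Flat.stalkMap _ _)).1 (Flat.stalkMap _ _)
  have hq : (τ p q g).QuasiFiniteAt pt := by
    obtain ⟨S', hS', ρ', hρq, hbij⟩ :=
      Algebra.QuasiFiniteAt.exists_fg_and_exists_notMem_and_awayMap_bijective (R := A) r'
    have : Module.Finite A S' := ⟨(Submodule.fg_top _).mpr hS'⟩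
    have : Algebra.QuasiFinite A (Localization.Away ρ') := .trans _ S' _
    have : Algebra.QuasiFinite A (Localization.Away ρ'.1) :=
      .of_surjective_algHom (Localization.awayMapₐ S'.val ρ') hbij.2
    let jr : Spec (CommRingCat.of (Localization.Away ρ'.1)) ⟶ Spec (CommRingCat.of (B ⧸ JB)) :=
      Spec.map (CommRingCat.ofHom (algebraMap (B ⧸ JB) (Localization.Away ρ'.1)))
    have : IsOpenImmersion jr := IsOpenImmersion.of_isLocalization ρ'.1
    have hqfc : LocallyQuasiFinite ((jr ≫ ι₁) ≫ τ p q g) := by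
      rw [Category.assoc, hι₁, ← Category.assoc, ← Spec.map_comp]
      have : LocallyQuasiFinite (Spec.map (CommRingCat.ofHom (algebraMap A (B ⧸ JB)) ≫
          CommRingCat.ofHom (algebraMap (B ⧸ JB) (Localization.Away ρ'.1)))) := by
        refine (HasRingHomProperty.Spec_iff (P := @LocallyQuasiFinite)).2 ?_
        rw [← CommRingCat.ofHom_comp, ← IsScalarTower.algebraMap_eq]
        exact RingHom.quasiFinite_algebraMap.2 inferInstance
      have : LocallyQuasiFinite hW.fromSpec := inferInstance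
      exact MorphismProperty.comp_mem @LocallyQuasiFinite _ _ ‹_› ‹_›
    obtain ⟨y₀, hy₀⟩ : z₀ ∈ Set.range jr := by
      rw [show (Set.range jr : Set (PrimeSpectrum (B ⧸ JB))) = PrimeSpectrum.basicOpen ρ'.1 from
        PrimeSpectrum.localization_away_comap_range _ ρ'.1]
      exact hρq
    rw [show pt = (jr ≫ ι₁) y₀ by rw [Scheme.Hom.comp_apply, hy₀]]
    exact Scheme.Hom.quasiFiniteAt_comp_iff_of_isOpenImmersion.1 (((jr ≫ ι₁) ≫ τ p q g).quasiFiniteAt y₀)
  refine ⟨Spec C₁, g, pt, inferInstance, inferInstance, inferInstance, ?_, ?_, hgp, hfl, hq⟩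
  · have e1 : (ι₁ ≫ pullback.snd q g) z₀ = Spec.map (CommRingCat.ofHom χ₁) z₀ := by rw [hk₁.lift_snd]
    show g ((pullback.snd q g) (ι₁ z₀)) = u
    rw [← Scheme.Hom.comp_apply ι₁, e1, ← Scheme.Hom.comp_apply]
    have e2 : Spec.map (CommRingCat.ofHom χ₁) ≫ g = Spec.map mkB ≫ hV.fromSpec ≫ q := by
      rw [hqV]
      show Spec.map (CommRingCat.ofHom χ₁) ≫ l₁ ≫ W₀.ι = _
      rw [← Category.assoc, ← sqB.w]
      simp only [Category.assoc]
    rw [e2, Scheme.Hom.comp_apply, Scheme.Hom.comp_apply]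
    have e3 : hV.fromSpec (Spec.map mkB z₀) = w := (congrArg hV.fromSpec (PrimeSpectrum.ext hr' :
      (Spec.map mkB z₀ : PrimeSpectrum Γ(W, V)) = hV.primeIdealOf ⟨w, hwV⟩)).trans (hV.fromSpec_primeIdealOf ⟨w, hwV⟩)
    exact (congrArg q e3).trans hqw
  · show (τ p q g) (ι₁ z₀) = u
    rw [← Scheme.Hom.comp_apply, hι₁, Scheme.Hom.comp_apply]
    have : Spec.map (CommRingCat.ofHom (algebraMap A (B ⧸ JB))) z₀ = hW.primeIdealOf ⟨u, huW⟩ :=
      PrimeSpectrum.ext (show r'.comap (algebraMap A (B ⧸ JB)) = 𝔭 by rw [hover, hr', hqpA])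
    exact (congrArg hW.fromSpec this).trans (hW.fromSpec_primeIdealOf ⟨u, huW⟩)

end Groth.Agent.Stk19b.QDMSlice
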