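import Groth.Agent.Stk19b.QDMSlice.Grpd
import Groth.Agent.Stk19b.QDMSlice.Point
import Groth.Agent.H8Top.FiniteTypePoints

/-!
# Quasi-finite slices of Cohen–Macaulay groupoid schemes through finite type points
-/

set_option autoImplicit false
set_option linter.style.haveILetI false
set_option backward.isDefEq.respectTransparency false
set_option backward.isDefEq.respectTransparency.types false

universe u

open CategoryTheory CategoryTheory.Limits AlgebraicGeometry

noncomputable section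

namespace Groth.Agent.Stk19b.QDMSlice

variable {S : Scheme.{u}} (G : Grpd.GroupoidScheme S)

/-- A finite type point is closed in an affine open, with maximal prime. -/
theorem exists_affine_maximal {X : Scheme.{u}} (x : X) (hx : LocallyOfFiniteType (X.fromSpecResidueField x)) :
    ∃ (W₀ : X.Opens) (hW : IsAffineOpen W₀) (hxW : x ∈ W₀), (hW.primeIdealOf ⟨x, hxW⟩).asIdeal.IsMaximal := by
  obtain ⟨W₀, hW, hxW, hcl⟩ := H8Top.exists_isClosed_in_affine (k := X.residueField x) (X.fromSpecResidueField x)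
  have e : X.fromSpecResidueField x (IsLocalRing.closedPoint (X.residueField x)) = x :=
    (X.range_fromSpecResidueField x).le ⟨_, rfl⟩
  have hxW' : x ∈ W₀ := e ▸ hxW
  refine ⟨W₀, hW, hxW', ?_⟩
  rw [show (⟨_, hxW⟩ : W₀) = ⟨x, hxW'⟩ from Subtype.ext e] at hcl
  have h2 : IsClosed (hW.isoSpec.hom '' ({⟨x, hxW'⟩} : Set W₀)) :=
    hW.isoSpec.hom.homeomorph.isClosedMap _ hcl
  rw [Set.image_singleton] at h2
  exact (PrimeSpectrum.isClosed_singleton_iff_isMaximal _).1 h2

/-- At an identity arrow over a closed point, every function agrees with one pulled back along the source. -/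
theorem rational_at_unit (u : G.U) {W₀ : G.U.Opens} (hW : IsAffineOpen W₀) (huW : u ∈ W₀)
    (hu : (hW.primeIdealOf ⟨u, huW⟩).asIdeal.IsMaximal) (V : G.R.Opens) (hV : IsAffineOpen V) (hwV : G.e u ∈ V)
    (ep : V ≤ G.s ⁻¹ᵁ W₀) (b : Γ(G.R, V)) :
    ∃ a, b - G.s.appLE W₀ V ep a ∈ (hV.primeIdealOf ⟨G.e u, hwV⟩).asIdeal := by
  let r := G.R.presheaf.germ V (G.e u) hwV ≫ G.R.residue (G.e u)
  let ε := r ≫ G.e.residueFieldMap u
  let ev : Γ(G.U, W₀) ⟶ G.U.residueField u := G.U.presheaf.germ W₀ u huW ≫ G.U.residue u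
  have key : ∀ (f : G.U ⟶ G.U) (hf : f = 𝟙 G.U) (h : f u ∈ W₀),
      G.U.presheaf.germ W₀ (f u) h ≫ f.stalkMap u = G.U.presheaf.germ W₀ u huW := by
    rintro f rfl h
    rw [Scheme.Hom.stalkMap_id]
    exact Category.comp_id _
  have hε : G.s.appLE W₀ V ep ≫ ε = ev := by
    have h1 : G.s.appLE W₀ V ep ≫ G.R.presheaf.germ V (G.e u) hwV =
        G.U.presheaf.germ W₀ (G.s (G.e u)) (ep hwV) ≫ G.s.stalkMap (G.e u) := by
      rw [Scheme.Hom.appLE, Category.assoc, TopCat.Presheaf.germ_res, Scheme.Hom.germ_stalkMap]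
    simp only [ε, r, ev, Category.assoc, Scheme.residue_residueFieldMap]
    rw [reassoc_of% h1, ← Category.assoc (G.s.stalkMap (G.e u)), ← Scheme.Hom.stalkMap_comp, ← Category.assoc]
    exact congrArg (· ≫ G.U.residue u) (key (G.e ≫ G.s) G.e_s (ep hwV))
  have hsurj : Function.Surjective ev.hom := by
    intro y
    obtain ⟨y, rfl⟩ := G.U.residue_surjective u y
    let := G.U.presheaf.algebra_section_stalk ⟨u, huW⟩
    have := hW.isLocalization_stalk ⟨u, huW⟩
    obtain ⟨⟨a, t⟩, hat⟩ := IsLocalization.surj (hW.primeIdealOf ⟨u, huW⟩).asIdeal.primeCompl y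
    obtain ⟨z, m, hm, hzm⟩ := Ideal.IsMaximal.exists_inv hu (x := t.1) t.2
    refine ⟨z * a, ?_⟩
    show G.U.residue u (G.U.presheaf.germ W₀ u huW (z * a)) = _
    have hat' : y * G.U.presheaf.germ W₀ u huW t.1 = G.U.presheaf.germ W₀ u huW a := hat
    have hm0 : G.U.residue u (G.U.presheaf.germ W₀ u huW m) = 0 := by
      rw [Scheme.residue, ← RingHom.mem_ker]
      show G.U.presheaf.germ W₀ u huW m ∈ RingHom.ker (IsLocalRing.residue (G.U.presheaf.stalk u))
      rw [IsLocalRing.ker_residue]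
      exact (IsLocalization.AtPrime.to_map_mem_maximal_iff _ (hW.primeIdealOf ⟨u, huW⟩).asIdeal m).2 hm
    have h1 : G.U.residue u (G.U.presheaf.germ W₀ u huW z) * G.U.residue u (G.U.presheaf.germ W₀ u huW t.1) = 1 := by
      rw [← map_mul, ← map_mul]
      calc _ = G.U.residue u (G.U.presheaf.germ W₀ u huW (z * t.1 + m)) := by rw [map_add, map_add, hm0, add_zero]
        _ = 1 := by rw [hzm, map_one, map_one]
    rw [map_mul, map_mul, ← hat', map_mul, mul_left_comm, h1, mul_one]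
  obtain ⟨a, ha⟩ := hsurj (ε.hom b)
  refine ⟨a, ?_⟩
  have h0 : ε.hom (b - G.s.appLE W₀ V ep a) = 0 := by
    rw [map_sub, ← ha, ← hε]
    exact sub_self _
  have hr0 : r.hom (b - G.s.appLE W₀ V ep a) = 0 := by
    apply (G.e.residueFieldMap u).hom.injective
    rw [map_zero]
    exact h0
  let := G.R.presheaf.algebra_section_stalk ⟨G.e u, hwV⟩
  have := hV.isLocalization_stalk ⟨G.e u, hwV⟩
  refine (IsLocalization.AtPrime.to_map_mem_maximal_iff (G.R.presheaf.stalk (G.e u))
    (hV.primeIdealOf ⟨G.e u, hwV⟩).asIdeal _).1 ?_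
  rw [← IsLocalRing.ker_residue, RingHom.mem_ker]
  exact hr0

/-- A quasi-finite flat slice through a finite type point of a groupoid scheme with Cohen–Macaulay
source map and quasi-finite stabilizer. -/
theorem exists_grpd_slice [LocallyOfFinitePresentation G.s] [LocallyOfFinitePresentation G.t] [Flat G.s] [Flat G.t]
    [LocallyQuasiFinite G.stabilizerToU] (hcm : ∀ r : G.R, CMBC25.FibCM G.s r) (u : G.U)
    (hu : LocallyOfFiniteType (G.U.fromSpecResidueField u)) :
    ∃ (Z : Scheme.{u}) (_ : IsAffine Z) (g : Z ⟶ G.U) (z : Z), IsImmersion g ∧ LocallyOfFinitePresentation g ∧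
      g z = u ∧ Flat (τ G.s G.t g) ∧ LocallyOfFinitePresentation (τ G.s G.t g) ∧
      LocallyQuasiFinite (τ G.s G.t g) := by
  obtain ⟨W₀, hW, huW, hmax⟩ := exists_affine_maximal u hu
  have hw : G.s ≫ G.pU = G.t ≫ G.pU := G.s_over.trans G.t_over.symm
  have hj := lqf_j G
  have hqf : LocallyQuasiFinite (pullback.lift G.s G.t hw) := by
    have e : pullback.lift G.s G.t hw = G.j ≫ (pullbackSymmetry G.pU G.pU).hom := by
      apply pullback.hom_ext <;> simp [Grpd.GroupoidScheme.j]
    rw [e]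
    infer_instance
  obtain ⟨Z, g, x, hZ, hgi, hgp, hgz, hτx, hτp, hfl, hq⟩ := exists_slice_at G.s G.t G.pU hw hqf hW u huW hmax (G.e u)
    (by rw [← Scheme.Hom.comp_apply, G.e_s]; rfl) (by rw [← Scheme.Hom.comp_apply, G.e_t]; rfl)
    (fun V hV hwV ep b => rational_at_unit G u hW huW hmax V hV hwV ep b) (hcm _)
  have hsat : Saturated G.s G.t := fun {_} hπ {_} => saturated_grpd G hπ
  let D := locus G.s G.t _ etPtProp_flat g ⊓ locus G.s G.t _ etPtProp_quasiFinite g
  obtain ⟨_, ⟨O, hO', rfl⟩, hzO, hOD⟩ := Z.isBasis_affineOpens.exists_subset_of_mem_open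
    (show pullback.snd G.t g x ∈ D from ⟨⟨x, hfl, rfl⟩, ⟨x, hq, rfl⟩⟩) D.isOpen
  have hO : IsAffineOpen (X := Z) O := hO'
  let j := Scheme.Opens.ι (X := Z) O
  have hτ' : LocallyOfFinitePresentation (τ G.s G.t (j ≫ g)) := lfp_τ_comp G.s G.t g j
  refine ⟨_, hO, j ≫ g, ⟨pullback.snd G.t g x, hzO⟩, inferInstance, inferInstance, hgz,
    Flat.of_stalkMap _ fun y => prop_of_le_locus G.s G.t hsat etPtProp_flat g j (fun z => (hOD z.2).1) y, hτ',
    (Scheme.Hom.quasiFiniteLocus_eq_top_iff _).1 (TopologicalSpace.Opens.ext (Set.eq_univ_of_forall fun y =>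
      prop_of_le_locus G.s G.t hsat etPtProp_quasiFinite g j (fun z => (hOD z.2).2) y))⟩

end Groth.Agent.Stk19b.QDMSlice
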