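import Groth.Agent.Stk19b.QDMSlice.Slice
import Groth.Agent.Stk19b.DMSlice.Main
import Groth.Agent.Stk19b.ProdSq
import Groth.Agent.AlgSpLib.LocPMore
import Groth.Agent.Stk19.AlgSt.SepRep

/-!
# Flat, locally quasi-finite covers of quasi-DM stacks
-/

set_option autoImplicit false
set_option linter.style.haveILetI false
set_option backward.isDefEq.respectTransparency false
set_option backward.isDefEq.respectTransparency.types false

universe u

open CategoryTheory CategoryTheory.Limits AlgebraicGeometry Opposite FibCat MonoidalCategory CartesianMonoidalCategory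
open Groth.Agent.Stk19

namespace Groth.Agent.Stk19b.QDMSlice

open DMSlice
open Boot (exists_preimage)

variable {S : Scheme.{u}} {𝒳 : AlgSt.Cat S} {U W Z : Over S} {u : overCat U ⥤ᵇ 𝒳} {F : AlgSp.Sp S}
  {e : AlgSt.ofSp F ⥤ᵇ fp u u}

/-- Properties of a slice composite pass to the map to the stack. -/
theorem slice_with {K : Precoverage Scheme.{u}} (h𝒳 : AlgSt.IsAlgStack K 𝒳) (hu : AlgSt.RepByAlgSpWith (AlgSp.LocP @Smooth) u)
    (hus : AlgSt.RepByAlgSpWith AlgSp.IsSurjectiveMor u) (hF : AlgSp.IsAlgSpace F) (he : IsEquivOver e)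
    (ω : (AlgSp.yon S).obj W ⟶ F) (hωE : AlgSp.RepWith @Etale ω) (hωS : AlgSp.RepWith @Surjective ω)
    (p q : W ⟶ U) (hp : (AlgSp.yon S).map p = ω ≫ P e) (hq : (AlgSp.yon S).map q = ω ≫ Q e) (π : Z ⟶ U)
    {R : MorphismProperty Scheme.{u}} [R.RespectsIso] [R.IsStableUnderBaseChange] (hR : AlgSpLib.EtLocal R)
    (hE : R (Limits.pullback.fst q.left π.left ≫ p.left)) :
    AlgSt.RepByAlgSpWith (AlgSp.LocP R) (BasedFunctor.comp (AlgSt.overMap π) u) := by
  have h := h𝒳.isStack.1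
  let x := BasedFunctor.comp (AlgSt.overMap π) u
  have hx1 : AlgSt.RepByAlgSp1 x := repByAlgSp1_of_diag h h𝒳.diag (repByAlgSp_overCat Z) x
  -- the representing space over the atlas
  let G := pullback (Q e) ((AlgSp.yon S).map π)
  have sqG := IsPullback.of_hasPullback (Q e) ((AlgSp.yon S).map π)
  have hG : AlgSp.IsAlgSpace G := AlgSpLib.isAlgSpace_of_isPullback (AlgSp.IsAlgSpace.yon_obj U).diag hF
    (AlgSp.IsAlgSpace.yon_obj Z) sqG
  have hEG : AlgSp.LocP R (pullback.fst (Q e) ((AlgSp.yon S).map π) ≫ P e) := by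
    have sqW := (IsPullback.of_hasPullback q π).map (AlgSp.yon S)
    rw [hq] at sqW
    let wG := sqG.lift ((AlgSp.yon S).map (pullback.fst q π) ≫ ω) ((AlgSp.yon S).map (pullback.snd q π))
      (by rw [Category.assoc, sqW.w])
    have sqw : IsPullback ((AlgSp.yon S).map (pullback.fst q π)) wG ω (pullback.fst (Q e) ((AlgSp.yon S).map π)) :=
      IsPullback.of_bot (by rw [sqG.lift_snd]; exact sqW) (sqG.lift_fst _ _ _).symm sqG
    refine AlgSpLib.locP_of_atlas hR hG wG (AlgSpLib.RepWith.baseChange sqw hωE)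
      (AlgSpLib.RepWith.baseChange sqw hωS) ?_
    rw [show wG ≫ pullback.fst (Q e) ((AlgSp.yon S).map π) ≫ P e = (AlgSp.yon S).map (pullback.fst q π ≫ p) by
      rw [sqG.lift_fst_assoc, Category.assoc, Functor.map_comp, hp]]
    refine (AlgSp.repWith_yon_map_iff R _).2 ?_
    rw [Over.comp_left, show (pullback.fst q π).left = _ from
      (((IsPullback.of_hasPullback q π).map (Over.forget S)).isoPullback_hom_fst).symm, Category.assoc]
    exact (MorphismProperty.cancel_left_of_respectsIso R _ _).2 hE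
  have hchart : AlgSt.RepByAlgSpWith (AlgSp.LocP R) (fpFst u x) := by
    obtain ⟨E₁, hE₁, hE₁f, hE₁s⟩ := exists_fp_equiv sqG
    obtain ⟨i₂⟩ := spMapOfOver_iso (BasedFunctor.comp e (fpSnd u u))
    haveI : (AlgSt.toOverCat U).toFunctor.Full := (EqvData.of_isEquivOver (isEquivOver_toOverCat U)).full
    haveI : (AlgSt.toOverCat U).toFunctor.Faithful := (EqvData.of_isEquivOver (isEquivOver_toOverCat U)).faithful
    let M := fpMap (F := AlgSt.ofSpMap (Q e)) (G := AlgSt.ofSpMap ((AlgSp.yon S).map π))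
      (F' := fpSnd u u) (G' := AlgSt.overMap π) e (AlgSt.toOverCat Z) (AlgSt.toOverCat U) i₂.symm (Iso.refl _)
    let Ψ := BasedFunctor.comp (BasedFunctor.comp E₁ M) (fpCompFactor u (AlgSt.overMap π) u)
    have hΨ : IsEquivOver Ψ := isEquivOver_comp (isEquivOver_comp hE₁ (isEquivOver_fpMap _ _ _ _ _ he
      (isEquivOver_toOverCat Z))) (isEquivOver_fpCompFactor _ _ _)
    obtain ⟨i₁⟩ := spMapOfOver_iso (BasedFunctor.comp e (fpFst u u))
    refine (repByAlgSpWith_iff_of_square (f' := AlgSt.ofSpMap (pullback.fst (Q e) ((AlgSp.yon S).map π) ≫ P e))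
      (f := fpFst u x) (a := Ψ) (b := AlgSt.toOverCat U) hΨ (isEquivOver_toOverCat U) ?_).1
      (repByAlgSpWith_ofSpMap (pbStable_locP hR) (V := ⟨G, hG⟩)
        (Z := ⟨_, AlgSp.IsAlgSpace.yon_obj U⟩) _ hEG)
    refine eqToIso ?_ ≪≫ ((Stk.restr (AlgSt.ofSpMap (pullback.fst (Q e) ((AlgSp.yon S).map π))) _).mapIso i₁).symm ≪≫
      eqToIso ?_
    · rw [← ofSpMap_comp]
      rfl
    · show BasedFunctor.comp (AlgSt.ofSpMap _) (BasedFunctor.comp e (fpFst u u)) =
        BasedFunctor.comp (BasedFunctor.comp (BasedFunctor.comp E₁ (fpFst _ _)) e) (fpFst u u)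
      rw [hE₁f]
      rfl
  have hxE : AlgSt.RepByAlgSpWith (AlgSp.LocP R) x := with_of_cover (respSrc_locP hR)
    (schDescent_locP hR) hx1
    (repByAlgSpWith_mono (fun _ _ _ _ ha => AlgSpLib.locP_mono (fun _ _ f (_ : Smooth f) => (inferInstance : Flat f)) ha) hu)
    (repByAlgSpWith_mono (fun _ _ _ _ ha => AlgSpLib.locP_mono
      (fun _ _ f (_ : Smooth f) => (inferInstance : LocallyOfFinitePresentation f)) ha) hu) hus hchart
  exact hxE

/-- The two projections of a chart of the double fibre product are quasi-finite over the product. -/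
theorem lqf_lift (hd : AlgSt.IsQuasiDMOver 𝒳) (hF : AlgSp.IsAlgSpace F) (he : IsEquivOver e)
    (ω : (AlgSp.yon S).obj W ⟶ F) (hωE : AlgSp.RepWith @Etale ω)
    (p q : W ⟶ U) (hp : (AlgSp.yon S).map p = ω ≫ P e) (hq : (AlgSp.yon S).map q = ω ≫ Q e) :
    LocallyQuasiFinite (Limits.pullback.lift p.left q.left ((Over.w p).trans (Over.w q).symm)) := by
  have hpr : AlgSt.RepByAlgSpWith (AlgSp.LocP (@LocallyQuasiFinite ⊓ @LocallyOfFiniteType)) (fpToProd u u) :=
    (repByAlgSpWith_iff_of_square (f' := fpToProd u u) (f := fpFst (prodPair u u) (FibCat.diag (toSelf 𝒳)))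
      (a := magicSquare u u) (b := BasedFunctor.id _) (isEquivOver_magicSquare u u) (isEquivOver_id _)
      (Iso.refl _)).2 (repByAlgSpWith_fpFst _ hd)
  obtain ⟨E, hE, h₁, h₂⟩ := exists_prod_equiv U U
  let M : fp (toSelf (AlgSt.ofSch U)) (toSelf (AlgSt.ofSch U)) ⥤ᵇ fp (toSelf (overCat U)) (toSelf (overCat U)) :=
    fpMap (F' := toSelf (overCat U)) (G' := toSelf (overCat U)) (AlgSt.toOverCat U) (AlgSt.toOverCat U)
      (BasedFunctor.id _) (selfIso _ _) (selfIso _ _)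
  have := id_full (FibCat.selfOver (Over S))
  have := id_faithful (FibCat.selfOver (Over S))
  have hM : IsEquivOver M :=
    isEquivOver_fpMap _ _ _ _ _ (isEquivOver_toOverCat U) (isEquivOver_toOverCat U)
  let d : F ⟶ (AlgSp.yon S).obj (U ⊗ U) :=
    ((AlgSt.isPullback_fst_snd U U).map (AlgSp.yon S)).lift (P e) (Q e) (by
      apply SpQuot.sp_hom_ext
      intro T c
      obtain ⟨a, ha⟩ := (AlgSp.yon S).map_surjective (c ≫ P e)
      obtain ⟨b, hb⟩ := (AlgSp.yon S).map_surjective (c ≫ Q e)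
      rw [← Category.assoc, ← Category.assoc, ← ha, ← hb, ← Functor.map_comp, ← Functor.map_comp]
      exact congrArg _ (toUnit_unique _ _))
  have d₁ : d ≫ (AlgSp.yon S).map (fst U U) = P e := IsPullback.lift_fst _ _ _ _
  have d₂ : d ≫ (AlgSp.yon S).map (snd U U) = Q e := IsPullback.lift_snd _ _ _ _
  obtain ⟨i₁⟩ := spMapOfOver_iso (BasedFunctor.comp e (fpFst u u))
  obtain ⟨i₂⟩ := spMapOfOver_iso (BasedFunctor.comp e (fpSnd u u))
  obtain ⟨i⟩ := nonempty_iso_prod (H := BasedFunctor.comp (AlgSt.ofSpMap d) (BasedFunctor.comp E M))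
    (K := BasedFunctor.comp e (fpToProd u u))
    (eqToIso (by
      show BasedFunctor.comp (AlgSt.ofSpMap d) (BasedFunctor.comp E (BasedFunctor.comp M (fpFst _ _))) = _
      rw [fpMap_fst, show AlgSt.spMapOfOver (BasedFunctor.comp e (fpFst u u)) = P e from rfl, ← d₁,
        ← ofSpMap_comp, ← h₁]
      rfl) ≪≫ i₁.symm)
    (eqToIso (by
      show BasedFunctor.comp (AlgSt.ofSpMap d) (BasedFunctor.comp E (BasedFunctor.comp M (fpSnd _ _))) = _
      rw [fpMap_snd, show AlgSt.spMapOfOver (BasedFunctor.comp e (fpSnd u u)) = Q e from rfl, ← d₂,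
        ← ofSpMap_comp, ← h₂]
      rfl) ≪≫ i₂.symm)
  have hd' := (repByAlgSpWith_iff_of_square (f' := AlgSt.ofSpMap d) he (isEquivOver_comp hE hM) i).2 hpr
  have hdP := prop_of_repByAlgSpWith_ofSpMap (pbStable_locP AlgSpLib.etLocal_lqf)
    (schemeTested_locP AlgSpLib.etLocal_lqf) (V := ⟨F, hF⟩) (Z := ⟨_, AlgSp.IsAlgSpace.yon_obj _⟩) d hd'
  have hωd : (AlgSp.yon S).map (lift p q) = ω ≫ d := by
    refine ((AlgSt.isPullback_fst_snd U U).map (AlgSp.yon S)).hom_ext ?_ ?_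
    · rw [Category.assoc, d₁, ← hp, ← Functor.map_comp, lift_fst]
    · rw [Category.assoc, d₂, ← hq, ← Functor.map_comp, lift_snd]
  have hl : (@LocallyQuasiFinite ⊓ @LocallyOfFiniteType : MorphismProperty Scheme.{u}) (lift p q).left :=
    AlgSp.locP_yon_map (hωd ▸ AlgSpLib.locP_comp AlgSpLib.etLocal_lqf (AlgSp.IsAlgSpace.yon_obj W) hF
      (AlgSp.IsAlgSpace.yon_obj _) (locP_atlas AlgSpLib.etLocal_lqf hωE) hdP)
  exact hl.1

/-- A quasi-DM algebraic stack has a flat, locally finitely presented, locally quasi-finite scheme cover. -/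
theorem exists_lqf_cover {K : Precoverage Scheme.{u}} (h𝒳 : AlgSt.IsAlgStack K 𝒳) (hd : AlgSt.IsQuasiDMOver 𝒳) :
    ∃ (Z : Over S) (z : overCat Z ⥤ᵇ 𝒳), AlgSt.RepByAlgSpWith
      (AlgSp.LocP (@Flat ⊓ @LocallyOfFinitePresentation ⊓ @LocallyQuasiFinite) ⊓ AlgSp.IsSurjectiveMor) z := by
  obtain ⟨U, u, hu, hus⟩ := h𝒳.atlas
  have h := h𝒳.isStack.1
  obtain ⟨F, e, he, hP⟩ := hu U u
  have hQ : AlgSp.LocP @Smooth (Q e) :=
    repWith_any (respSrc_locP AlgSpLib.etLocal_smooth) he hP (BasedFunctor.comp e (fpSwap u u))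
      (isEquivOver_comp he (isEquivOver_fpSwap u u))
  obtain ⟨W, ω, hωE, hωS⟩ := F.property.atlas
  obtain ⟨p, hp⟩ := (AlgSp.yon S).map_surjective (ω ≫ P e)
  obtain ⟨q, hq⟩ := (AlgSp.yon S).map_surjective (ω ≫ Q e)
  have : Smooth p.left := AlgSp.locP_yon_map (hp ▸ AlgSpLib.locP_comp AlgSpLib.etLocal_smooth
    (AlgSp.IsAlgSpace.yon_obj W) F.property (AlgSp.IsAlgSpace.yon_obj U) (locP_atlas AlgSpLib.etLocal_smooth hωE) hP)
  have : Smooth q.left := AlgSp.locP_yon_map (hq ▸ AlgSpLib.locP_comp AlgSpLib.etLocal_smooth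
    (AlgSp.IsAlgSpace.yon_obj W) F.property (AlgSp.IsAlgSpace.yon_obj U) (locP_atlas AlgSpLib.etLocal_smooth hωE) hQ)
  -- every point of the chart is an end
  have hpt : ∀ u₀ : U.left, ∃ x₀ : W.left, p.left x₀ = u₀ := by
    intro u₀
    obtain ⟨δ, hδ⟩ := exists_point h he (⟨𝟙 (pt u (𝟙 U)), by simp⟩ : Tri u (𝟙 U) (𝟙 U))
    have sq₀ := hωE.rep.isPullback δ
    obtain ⟨n, hn⟩ := (AlgSp.yon S).map_surjective (hωE.rep.fst δ)
    rw [← hn] at sq₀
    have hdS : Surjective (hωE.rep.snd δ).left := hωS.property _ _ _ sq₀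
    obtain ⟨z, rfl⟩ := hdS.surj u₀
    refine ⟨n.left z, ?_⟩
    have : n ≫ p = hωE.rep.snd δ := (AlgSp.yon S).map_injective (by
      rw [Functor.map_comp, hp, reassoc_of% sq₀.w, (comp_eq h hδ).1, CategoryTheory.Functor.map_id, Category.comp_id])
    rw [← Scheme.Hom.comp_apply, ← Over.comp_left, this]
  have hqf := lqf_lift hd F.property he ω hωE p q hp hq
  have hsat : Saturated p.left q.left := fun {_} hπ {_} g hfp x₁ x₂ hx h₁ =>
    saturated h he ω hωE hωS p q hp hq hπ g hfp x₁ x₂ hx h₁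
  -- slices through the closed points of the affine opens
  let ι := Σ (V : {V : U.left.Opens // IsAffineOpen V}), {𝔭 : Ideal Γ(U.left, V.1) // 𝔭.IsMaximal}
  have hsl : ∀ i : ι, ∃ (Z' : Scheme.{u}) (g' : Z' ⟶ U.left), Flat (τ p.left q.left g') ∧
      LocallyOfFinitePresentation (τ p.left q.left g') ∧ LocallyQuasiFinite (τ p.left q.left g') ∧
      ∃ x, τ p.left q.left g' x = i.1.2.fromSpec ⟨i.2.1, i.2.2.isPrime⟩ := fun ⟨⟨V, hV⟩, ⟨𝔭, h𝔭⟩⟩ =>
    exists_slice p.left q.left U.hom _ hqf hsat hV 𝔭 hpt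
  choose Z' g' hgf hgp hgq x hx using hsl
  let Zi : ι → Over S := fun i => Over.mk (g' i ≫ U.hom)
  let Zt := AlgSpLib.sigmaOver Zi
  let π : Zt ⟶ U := Over.homMk (Sigma.desc fun i => g' i) (Sigma.hom_ext _ _ fun i => by
    simp [Zt, Zi, AlgSpLib.sigmaOver])
  have hι : ∀ i, Sigma.ι (fun v => (Zi v).left) i ≫ π.left = g' i := fun i => Sigma.ι_desc _ _
  have hlocal : ∀ (R : MorphismProperty Scheme.{u}) [IsZariskiLocalAtSource R],
      (∀ i, R (τ p.left q.left (g' i))) → R (Limits.pullback.fst q.left π.left ≫ p.left) := fun R _ hR => by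
    refine IsZariskiLocalAtSource.of_openCover (P := R)
      (Scheme.Pullback.openCoverOfRight (sigmaOpenCover fun v => (Zi v).left) q.left π.left) fun i => ?_
    rw [Scheme.Pullback.openCoverOfRight_f, ← Category.assoc, pullback.lift_fst, Category.comp_id]
    have := hR i
    rw [← hι i] at this
    exact this
  have hFl : Flat (Limits.pullback.fst q.left π.left ≫ p.left) := hlocal _ hgf
  have hLp : LocallyOfFinitePresentation (Limits.pullback.fst q.left π.left ≫ p.left) := hlocal _ hgp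
  have hLq : LocallyQuasiFinite (Limits.pullback.fst q.left π.left ≫ p.left) := hlocal _ hgq
  have hS : Surjective (Limits.pullback.fst q.left π.left ≫ p.left) := by
    refine ⟨fun u₀ => ?_⟩
    obtain ⟨_, ⟨V, hV', rfl⟩, hu₀, -⟩ :=
      U.left.isBasis_affineOpens.exists_subset_of_mem_open (show u₀ ∈ (⊤ : U.left.Opens) from trivial)
        (⊤ : U.left.Opens).isOpen
    have hV : IsAffineOpen (X := U.left) V := hV'
    let 𝔮 := hV.primeIdealOf ⟨u₀, hu₀⟩
    obtain ⟨𝔭, h𝔭, hle⟩ := Ideal.exists_le_maximal 𝔮.asIdeal 𝔮.2.ne_top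
    let i : ι := ⟨⟨V, hV⟩, ⟨𝔭, h𝔭⟩⟩
    let m : Limits.pullback q.left (g' i) ⟶ Limits.pullback q.left π.left :=
      pullback.map _ _ _ _ (𝟙 _) (Sigma.ι (fun v => (Zi v).left) i) (𝟙 _) (by simp) (by simp [hι])
    have em : m ≫ Limits.pullback.fst q.left π.left ≫ p.left = τ p.left q.left (g' i) := by
      rw [τ, ← Category.assoc, pullback.lift_fst, Category.comp_id]
    have hm : hV.fromSpec ⟨𝔭, h𝔭.isPrime⟩ ∈ Set.range (Limits.pullback.fst q.left π.left ≫ p.left) :=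
      ⟨m (x i), by rw [← Scheme.Hom.comp_apply, em]; exact hx i⟩
    have hsp : u₀ ⤳ hV.fromSpec ⟨𝔭, h𝔭.isPrime⟩ := by
      have e₀ : hV.fromSpec 𝔮 = u₀ := hV.fromSpec_primeIdealOf ⟨u₀, hu₀⟩
      have hs : 𝔮 ⤳ (⟨𝔭, h𝔭.isPrime⟩ : PrimeSpectrum _) := (PrimeSpectrum.le_iff_specializes _ _).1 hle
      have := hs.map hV.fromSpec.continuous
      rwa [e₀] at this
    exact hsp.mem_open (Limits.pullback.fst q.left π.left ≫ p.left).isOpenMap.isOpen_range hm
  let z := BasedFunctor.comp (AlgSt.overMap π) u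
  have z₁ := slice_with h𝒳 hu hus F.property he ω hωE hωS p q hp hq π AlgSpLib.etLocal_flat hFl
  have z₂ := slice_with h𝒳 hu hus F.property he ω hωE hωS p q hp hq π AlgSpLib.etLocal_lfp hLp
  have z₃ := slice_with h𝒳 hu hus F.property he ω hωE hωS p q hp hq π AlgSpLib.etLocal_lqf ⟨hLq, inferInstance⟩
  have zs : AlgSt.RepByAlgSpWith AlgSp.IsSurjectiveMor z := by
    refine with_surjective_of_ofChart h (repByAlgSp1_of_with z₁) fun t => ?_
    obtain ⟨u₀, rfl⟩ := ofChart_surjective h hus t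
    obtain ⟨w, hw⟩ := hS.surj u₀
    obtain ⟨φ, -⟩ := exists_tri h ω hp.symm hq.symm
    obtain ⟨α⟩ := chart_iso h φ
    refine ⟨(Limits.pullback.snd q.left π.left) w, ?_⟩
    rw [ofChart_overMap, ← Scheme.Hom.comp_apply, ← pullback.condition, Scheme.Hom.comp_apply,
      ← ofChart_eq_of_iso α, ← hw, Scheme.Hom.comp_apply]
  have hz := repByAlgSpWith_and respSrc_surjective (repByAlgSpWith_and (respSrc_locP AlgSpLib.etLocal_lqf)
    (repByAlgSpWith_and (respSrc_locP AlgSpLib.etLocal_lfp) z₁ z₂) z₃) zs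
  exact ⟨Zt, z, repByAlgSpWith_mono (fun X V a _ ha =>
    ⟨AlgSpLib.locP_inf.2 ⟨AlgSpLib.locP_inf.2 ha.1.1, AlgSpLib.locP_mono inf_le_left ha.1.2⟩, ha.2⟩) hz⟩

end Groth.Agent.Stk19b.QDMSlice
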