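import Groth.Agent.Stk19b.QDMSlice.Cut

/-!
# Flatness from Cohen–Macaulayness, and the symmetric form of a slice
-/

set_option autoImplicit false
set_option linter.style.haveILetI false
set_option backward.isDefEq.respectTransparency false
set_option backward.isDefEq.respectTransparency.types false

universe u

open CategoryTheory CategoryTheory.Limits AlgebraicGeometry

noncomputable section

namespace Groth.Agent.Stk19b.QDMSlice

theorem flat_of_isCMAt {X Y : Scheme.{u}} (f : X ⟶ Y) (h : ∀ x, Grpd.IsCMAt f x) : Flat f :=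
  Flat.of_stalkMap f fun x => (h x).1

theorem grpd_isCMAt_iff {X Y : Scheme.{u}} (f : X ⟶ Y) (x : X) :
    Grpd.IsCMAt f x ↔ MoreMor.IsCMAt f x :=
  ⟨fun h => (CMBC25.moreMor_isCMAt_iff f x).2 ⟨h.1, h.2⟩,
    fun h => ⟨((CMBC25.moreMor_isCMAt_iff f x).1 h).1, ((CMBC25.moreMor_isCMAt_iff f x).1 h).2⟩⟩

/-- Moving Cohen–Macaulayness and fibre dimension along an isomorphism of sources. -/
theorem isCMAt_of_iso {X' X Y : Scheme.{u}} (σ : X' ⟶ X) [IsIso σ] (f : X ⟶ Y) (f' : X' ⟶ Y) (e : σ ≫ f = f') (x : X')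
    (hfl : (f.stalkMap (σ x)).hom.Flat) (hcm : CMBC25.FibCM f (σ x)) :
    Grpd.IsCMAt f' x ∧ FlatMor.fibreDimAt f' x = FlatMor.fibreDimAt f (σ x) := by
  subst e
  refine ⟨?_, (Unram17Lib.fibreDimAt_eq_of_openImmersion σ (𝟙 Y) (h' := σ ≫ f) (Category.comp_id _).symm x).symm⟩
  exact (grpd_isCMAt_iff _ x).2 ((EGA43.CMChart.isCMAt_comp_iff σ f x).2
    ((CMBC25.moreMor_isCMAt_iff f (σ x)).2 ⟨hfl, hcm⟩))

end Groth.Agent.Stk19b.QDMSlice
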