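import Groth.Agent.Stk19b.QDMSlice.CutSymm
import Groth.Agent.S4961
import Groth.Agent.FlatMor12.CMFibreDim

/-!
# Cohen–Macaulayness as a point property; restriction of a groupoid to a slice
-/

set_option autoImplicit false
set_option linter.style.haveILetI false
set_option backward.isDefEq.respectTransparency false
set_option backward.isDefEq.respectTransparency.types false

universe u

open CategoryTheory CategoryTheory.Limits AlgebraicGeometry

noncomputable section

namespace Groth.Agent.Stk19b.QDMSlice

theorem fibCM_of_lqf {X Y : Scheme.{u}} (f : X ⟶ Y) [LocallyQuasiFinite f] [LocallyOfFiniteType f] (x : X) : CMBC25.FibCM f x := by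
  have hd := CMBC25.dense_fibCM f (f x)
  have hdisc : DiscreteTopology ↥(f.fiber (f x)) := by
    haveI := (f.isDiscrete_preimage_singleton (f x)).to_subtype
    exact (f.fiberHomeo (f x)).isEmbedding.discreteTopology
  rw [dense_discrete] at hd
  have := hd.ge (Set.mem_univ (f.asFiber x))
  rwa [Set.mem_preimage, Scheme.Hom.fiberι_asFiber] at this

theorem isCMAt_etale_comp {A' A U : Scheme.{u}} (e : A' ⟶ A) [Etale e] (f : A ⟶ U) [LocallyOfFiniteType f] (y : A') :
    MoreMor.IsCMAt (e ≫ f) y ↔ MoreMor.IsCMAt f (e y) := by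
  have : LocallyQuasiFinite e := (AlgSpLib.etLocal_lqf.of_etale _ _ e ‹Etale e›).1
  have hnoe : ∀ {X Y : Scheme.{u}} (g : X ⟶ Y) [LocallyOfFiniteType g] (x : X), IsNoetherianRing
      (X.presheaf.stalk x ⧸ (IsLocalRing.maximalIdeal (Y.presheaf.stalk (g x))).map (g.stalkMap x).hom) := by
    intro X Y g _ x
    have : LocallyOfFiniteType (g.fiberToSpecResidueField (g x)) :=
      inferInstanceAs (LocallyOfFiniteType (pullback.snd g (Y.fromSpecResidueField (g x))))
    exact FlatMor12.isNoetherianRing_fibreStalk g x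
      (LocallyOfFiniteType.isLocallyNoetherian (g.fiberToSpecResidueField (g x)))
  rw [FlatMor12.isCM_comp_iff e f y (Flat.stalkMap e y) (hnoe f (e y)) (hnoe (e ≫ f) y), and_iff_right_iff_imp]
  exact fun _ => (CMBC25.moreMor_isCMAt_iff e y).2 ⟨Flat.stalkMap e y, fibCM_of_lqf e y⟩

theorem etPtProp_cm : EtPtProp (fun _ _ f x => MoreMor.IsCMAt f x) where
  isOpen f _ := Groth.Agent.S4961.result f
  baseChange := fun {X Y X' Y' g' f' f g} sq _ x' h => by
    rw [CMBC25.moreMor_isCMAt_iff] at h ⊢
    exact ⟨Fppf.ptProp_flat.baseChange sq inferInstance x' h.1, (CMBC25.fibCM_iff_of_isPullback sq x').2 h.2⟩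
  descend := fun {X Y X' Y' g' f' f g} sq _ hg x' h => by
    rw [CMBC25.moreMor_isCMAt_iff] at h ⊢
    exact ⟨Fppf.ptProp_flat.descend sq inferInstance hg x' h.1, (CMBC25.fibCM_iff_of_isPullback sq x').1 h.2⟩
  etale_comp := isCMAt_etale_comp

variable {S : Scheme.{u}} (G : Grpd.GroupoidScheme S) {Z : Scheme.{u}} (g : Z ⟶ G.U)

/-- Inverse on the restriction of the arrows to a slice. -/
def restrInv : pullback (pullback.snd g G.t ≫ G.s) g ⟶ pullback (pullback.snd g G.t ≫ G.s) g :=
  pullback.lift (pullback.lift (pullback.snd (pullback.snd g G.t ≫ G.s) g)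
      ((pullback.fst _ g ≫ pullback.snd g G.t) ≫ G.i)
      (by rw [Category.assoc _ G.i, G.i_t, ← pullback.condition, Category.assoc]))
    (pullback.fst _ g ≫ pullback.fst g G.t)
    (by rw [pullback.lift_snd_assoc, Category.assoc _ G.i, G.i_s, Category.assoc, Category.assoc, pullback.condition])

theorem restrInv_snd : restrInv G g ≫ pullback.snd (pullback.snd g G.t ≫ G.s) g =
    pullback.fst _ g ≫ pullback.fst g G.t := pullback.lift_snd _ _ _

theorem restrInv_restrInv : restrInv G g ≫ restrInv G g = 𝟙 _ := by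
  apply pullback.hom_ext
  · rw [Category.id_comp, Category.assoc, restrInv, pullback.lift_fst]
    apply pullback.hom_ext
    · rw [Category.assoc, pullback.lift_fst, pullback.lift_snd]
    · rw [Category.assoc, pullback.lift_snd, ← Category.assoc, pullback.lift_fst_assoc, pullback.lift_snd,
        Category.assoc, GrpdLib.i_comp_i, Category.comp_id]
  · rw [Category.id_comp, Category.assoc, restrInv_snd, restrInv, pullback.lift_fst_assoc, pullback.lift_fst]

instance : IsIso (restrInv G g) := ⟨restrInv G g, restrInv_restrInv G g, restrInv_restrInv G g⟩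

end Groth.Agent.Stk19b.QDMSlice
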