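import Groth.Agent.Stk19b.Fppf.SliceAlg
import Mathlib.RingTheory.QuasiFinite.Basic

/-!
# Specialisation in the fibre of one factor of a quasi-finite algebra over a tensor product
-/

set_option autoImplicit false
set_option backward.isDefEq.respectTransparency false

universe u

noncomputable section

open TensorProduct Polynomial

namespace Groth.Agent.Stk19b.QDMSlice

/-- A residue field of an algebra quasi-finite over a tensor product is algebraic over a field over
which both factors are algebraic. -/
theorem isAlgebraic_of_quasiFinite {k L : Type u} [Field k] [Field L] [Algebra k L]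
    {R : Type u} [CommRing R] [Algebra R L] [Algebra.QuasiFinite R L]
    (hR : ∀ r : R, IsAlgebraic k (algebraMap R L r)) (y : L) : IsAlgebraic k y := by
  let q := RingHom.ker (algebraMap R L)
  haveI : q.IsPrime := RingHom.ker_isPrime _
  let E := algebraicClosure k L
  let ρ : R →+* E := (algebraMap R L).codRestrict E fun r => (mem_algebraicClosure_iff).2 (hR r)
  letI : Algebra R E := ρ.toAlgebra
  haveI : IsScalarTower R E L := .of_algebraMap_eq fun _ => rfl
  haveI : Algebra.QuasiFinite E L := Algebra.QuasiFinite.of_restrictScalars R E L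
  haveI : Module.Finite E L := Module.Finite.of_quasiFinite
  haveI : Algebra.IsIntegral k E := Algebra.IsAlgebraic.isIntegral
  exact (isIntegral_trans (A := E) y (Algebra.IsIntegral.isIntegral y)).isAlgebraic

open Fppf (isAlgebraic_of_field_hom)

variable {A B C : Type u} [CommRing A] [CommRing B] [CommRing C] [Algebra A B] [Algebra C B]

/-- primes over a maximal ideal of the base with the same closed image on the other factor do not specialise -/
theorem eq_of_le_of_quasiFinite [Algebra.FiniteType A B] [Algebra.FiniteType C B]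
    {R : Type u} [CommRing R] (ρ : R →+* B) (hqf : ρ.QuasiFinite)
    (hgen : ∀ r, ρ r ∈ Subring.closure (Set.range (algebraMap A B) ∪ Set.range (algebraMap C B)))
    (P m : Ideal B) [P.IsPrime] [m.IsMaximal] (hPm : P ≤ m)
    [hp : (m.comap (algebraMap A B)).IsMaximal]
    (hPA : P.comap (algebraMap A B) = m.comap (algebraMap A B))
    (hPC : P.comap (algebraMap C B) = m.comap (algebraMap C B)) : P = m := by
  classical
  let p := m.comap (algebraMap A B)
  let pc := m.comap (algebraMap C B)
  letI : Field (A ⧸ p) := Ideal.Quotient.field p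
  letI : Field (B ⧸ m) := Ideal.Quotient.field m
  letI : Algebra (A ⧸ p) (B ⧸ P) :=
    (Ideal.quotientMap P (algebraMap A B) hPA.ge).toAlgebra
  haveI : IsScalarTower A (A ⧸ p) (B ⧸ P) := .of_algebraMap_eq fun _ => rfl
  haveI : Algebra.FiniteType (A ⧸ p) (B ⧸ P) := Algebra.FiniteType.of_restrictScalars_finiteType A _ _
  -- the image in the second factor is locally closed
  letI : Algebra (C ⧸ pc) (B ⧸ m) := (Ideal.quotientMap m (algebraMap C B) le_rfl).toAlgebra
  haveI : IsScalarTower C (C ⧸ pc) (B ⧸ m) := .of_algebraMap_eq fun _ => rfl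
  haveI : Algebra.FiniteType (C ⧸ pc) (B ⧸ m) := Algebra.FiniteType.of_restrictScalars_finiteType C _ _
  obtain ⟨f, hf, Rf, hloc, hfield, -⟩ := Groth.Agent.S9613.result (R := C ⧸ pc) (K := B ⧸ m)
    (Ideal.quotientMap_injective)
  letI : Field Rf := hfield.toField
  let χP : C ⧸ pc →+* B ⧸ P := Ideal.quotientMap P (algebraMap C B) hPC.ge
  have hfP : χP f ≠ 0 := fun e => hf ((Ideal.quotientMap_injective' hPC.le) (e.trans (map_zero _).symm))
  let D := Localization.Away (χP f)
  haveI : IsDomain D := IsLocalization.isDomain_of_le_nonZeroDivisors _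
    (powers_le_nonZeroDivisors_of_noZeroDivisors hfP)
  haveI : Algebra.FinitePresentation (B ⧸ P) D := IsLocalization.Away.finitePresentation (χP f)
  haveI : Algebra.FiniteType (A ⧸ p) D := Algebra.FiniteType.trans ‹Algebra.FiniteType (A ⧸ p) (B ⧸ P)› inferInstance
  let φ : Rf →+* D := IsLocalization.Away.lift f (g := (algebraMap (B ⧸ P) D).comp χP)
    (IsLocalization.Away.algebraMap_isUnit (χP f))
  let L := FractionRing (B ⧸ P)
  let i : D →ₐ[A ⧸ p] L := IsLocalization.liftAlgHom (A := A ⧸ p) (M := Submonoid.powers (χP f))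
    (f := IsScalarTower.toAlgHom (A ⧸ p) (B ⧸ P) L) fun y => by
      refine IsUnit.mk0 _ fun e => ?_
      obtain ⟨n, hn⟩ := y.2
      refine pow_ne_zero n hfP ((IsFractionRing.injective (B ⧸ P) L) ?_)
      rw [map_zero, ← e]
      exact congrArg (algebraMap (B ⧸ P) L) hn
  have hχ : ∀ c, IsAlgebraic (A ⧸ p) (algebraMap (B ⧸ P) L (Ideal.Quotient.mk P (algebraMap C B c))) := by
    intro c
    have h := (isAlgebraic_of_field_hom (k := A ⧸ p) φ (algebraMap (C ⧸ pc) Rf (Ideal.Quotient.mk pc c))).algHom i
    rwa [IsLocalization.Away.lift_eq, IsLocalization.liftAlgHom_apply, RingHom.comp_apply,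
      IsLocalization.lift_eq] at h
  have hα : ∀ a, IsAlgebraic (A ⧸ p) (algebraMap (B ⧸ P) L (Ideal.Quotient.mk P (algebraMap A B a))) := fun a => by
    have := isAlgebraic_algebraMap (A := L) (Ideal.Quotient.mk p a)
    rwa [IsScalarTower.algebraMap_apply (A ⧸ p) (B ⧸ P) L] at this
  refine (le_antisymm hPm fun y hy => by_contra fun hyP => ?_)
  have halg : IsAlgebraic (A ⧸ p) (algebraMap (B ⧸ P) L (Ideal.Quotient.mk P y)) := by
    letI : Algebra R B := ρ.toAlgebra
    haveI : Algebra.QuasiFinite R B := hqf
    haveI : IsScalarTower R (B ⧸ P) L := inferInstance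
    haveI : Algebra.QuasiFinite R L := Algebra.QuasiFinite.trans _ (B ⧸ P) L
    refine isAlgebraic_of_quasiFinite (R := R) (fun r => ?_) _
    show IsAlgebraic (A ⧸ p) (algebraMap (B ⧸ P) L (Ideal.Quotient.mk P (ρ r)))
    have key : ∀ x ∈ Subring.closure (Set.range (algebraMap A B) ∪ Set.range (algebraMap C B)),
        IsAlgebraic (A ⧸ p) (algebraMap (B ⧸ P) L (Ideal.Quotient.mk P x)) := fun x hx => by
      induction hx using Subring.closure_induction with
      | mem x hx =>
        rcases hx with ⟨a, rfl⟩ | ⟨c, rfl⟩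
        · exact hα a
        · exact hχ c
      | zero => rw [map_zero, map_zero]; exact isAlgebraic_zero
      | one => rw [map_one, map_one]; exact isAlgebraic_one
      | add x y _ _ hx hy => rw [map_add, map_add]; exact hx.add hy
      | neg x _ hx => rw [map_neg, map_neg]; exact hx.neg
      | mul x y _ _ hx hy => rw [map_mul, map_mul]; exact hx.mul hy
    exact key _ (hgen r)
  have halg' : IsAlgebraic (A ⧸ p) (Ideal.Quotient.mk P y) :=
    (isAlgebraic_algHom_iff (IsScalarTower.toAlgHom (A ⧸ p) (B ⧸ P) L) (IsFractionRing.injective _ _)).1 halg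
  obtain ⟨r, hr, hdvd⟩ := IsAlgebraic.exists_nonzero_dvd halg'
    (mem_nonZeroDivisors_of_ne_zero fun e => hyP (Ideal.Quotient.eq_zero_iff_mem.1 e))
  have hu : IsUnit (Ideal.Quotient.mk P y) :=
    isUnit_of_dvd_unit hdvd ((IsUnit.mk0 r hr).map (algebraMap (A ⧸ p) (B ⧸ P)))
  have := hu.map (Ideal.Quotient.factor hPm)
  rw [Ideal.Quotient.factor_mk, Ideal.Quotient.eq_zero_iff_mem.2 hy] at this
  exact not_isUnit_zero this

end Groth.Agent.Stk19b.QDMSlice
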