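import Groth.Agent.Stk19b.QDMSlice.Grpd
import Groth.Agent.GrpdField.Equidim
import Groth.Prelude.Def_Flat

/-!
# The stabilizer over a morphism as a groupoid; its dimension at the identity
-/

set_option autoImplicit false
set_option linter.style.haveILetI false
set_option backward.isDefEq.respectTransparency false
set_option backward.isDefEq.respectTransparency.types false

universe u

open CategoryTheory CategoryTheory.Limits AlgebraicGeometry

noncomputable section

namespace Groth.Agent.Stk19b.QDMSlice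

variable {S : Scheme.{u}} (G : Grpd.GroupoidScheme S) {T : Scheme.{u}} (f : T ⟶ G.U)

/-- The arrow underlying a point of the stabilizer over a morphism. -/
def stabPt : pullback G.stabilizerToU f ⟶ G.R := pullback.fst _ _ ≫ GrpdLib.stabArrow G

theorem stabPt_t : stabPt G f ≫ G.t = pullback.snd G.stabilizerToU f ≫ f := by
  rw [stabPt, Category.assoc, GrpdLib.stabArrow_t, pullback.condition]

theorem stabPt_s : stabPt G f ≫ G.s = pullback.snd G.stabilizerToU f ≫ f := by
  rw [stabPt, Category.assoc, GrpdLib.stabArrow_s, pullback.condition]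

theorem comp_stabPt_t {X : Scheme.{u}} (a : X ⟶ pullback G.stabilizerToU f) :
    (a ≫ stabPt G f) ≫ G.t = (a ≫ pullback.snd _ _) ≫ f := by rw [Category.assoc, stabPt_t, Category.assoc]

theorem comp_stabPt_s {X : Scheme.{u}} (a : X ⟶ pullback G.stabilizerToU f) :
    (a ≫ stabPt G f) ≫ G.s = (a ≫ pullback.snd _ _) ≫ f := by rw [Category.assoc, stabPt_s, Category.assoc]

/-- A loop over a morphism. -/
def stabPtMk {X : Scheme.{u}} (γ : X ⟶ G.R) (w : X ⟶ T) (ht : γ ≫ G.t = w ≫ f) (hs : γ ≫ G.s = w ≫ f) :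
    X ⟶ pullback G.stabilizerToU f :=
  pullback.lift (GrpdLib.stabMk G γ (ht.trans hs.symm)) w (by rw [GrpdLib.stabMk_toU]; exact ht)

theorem stabPtMk_arrow {X : Scheme.{u}} (γ : X ⟶ G.R) (w : X ⟶ T) (ht : γ ≫ G.t = w ≫ f) (hs : γ ≫ G.s = w ≫ f) :
    stabPtMk G f γ w ht hs ≫ stabPt G f = γ := by
  rw [stabPt, stabPtMk, pullback.lift_fst_assoc, GrpdLib.stabMk_arrow]

theorem stabPtMk_snd {X : Scheme.{u}} (γ : X ⟶ G.R) (w : X ⟶ T) (ht : γ ≫ G.t = w ≫ f) (hs : γ ≫ G.s = w ≫ f) :
    stabPtMk G f γ w ht hs ≫ pullback.snd _ _ = w := pullback.lift_snd _ _ _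

theorem stabPt_ext {X : Scheme.{u}} {a b : X ⟶ pullback G.stabilizerToU f} (h₁ : a ≫ stabPt G f = b ≫ stabPt G f)
    (h₂ : a ≫ pullback.snd _ _ = b ≫ pullback.snd _ _) : a = b :=
  pullback.hom_ext (GrpdLib.stab_ext G _ _ (by simpa [stabPt] using h₁)) h₂

/-- The stabilizer over a morphism as a groupoid scheme. -/
def stabGrpd : Grpd.GroupoidScheme T where
  U := T
  R := pullback G.stabilizerToU f
  pU := 𝟙 T
  pR := pullback.snd _ _
  s := pullback.snd _ _
  t := pullback.snd _ _
  e := stabPtMk G f (f ≫ G.e) (𝟙 T) (by rw [Category.assoc, G.e_t]; simp) (by rw [Category.assoc, G.e_s]; simp)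
  i := stabPtMk G f (stabPt G f ≫ G.i) (pullback.snd _ _)
    (by rw [Category.assoc, G.i_t, stabPt_s]) (by rw [Category.assoc, G.i_s, stabPt_t])
  c := stabPtMk G f (arrMul G (pullback.fst _ _ ≫ stabPt G f) (pullback.snd _ _ ≫ stabPt G f)
      (by rw [comp_stabPt_s, comp_stabPt_t, pullback.condition]))
    (pullback.snd _ _ ≫ pullback.snd _ _)
    (by rw [arrMul_t, comp_stabPt_t, pullback.condition]) (by rw [arrMul_s, comp_stabPt_s])
  s_over := Category.comp_id _
  t_over := Category.comp_id _
  comp_s α β h := by rw [Category.assoc, stabPtMk_snd, pullback.lift_snd_assoc]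
  comp_t α β h := by rw [Category.assoc, stabPtMk_snd, pullback.lift_snd_assoc]; exact h.symm
  assoc α β γ h₁ h₂ := by
    refine stabPt_ext G f ?_ ?_
    · simp only [Category.assoc, stabPtMk_arrow, comp_arrMul]
      refine (arrMul_congr G ?_ ?_).trans ((arrMul_assoc G (α ≫ stabPt G f) (β ≫ stabPt G f) (γ ≫ stabPt G f)
        (by rw [comp_stabPt_s, comp_stabPt_t, h₁]) (by rw [comp_stabPt_s, comp_stabPt_t, h₂])).trans
        (arrMul_congr G ?_ ?_))
      · rw [pullback.lift_fst_assoc, Category.assoc, stabPtMk_arrow, comp_arrMul]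
        exact arrMul_congr G (by rw [pullback.lift_fst_assoc]) (by rw [pullback.lift_snd_assoc])
      · rw [pullback.lift_snd_assoc]
      · rw [pullback.lift_fst_assoc]
      · rw [pullback.lift_snd_assoc]
        simp only [Category.assoc, stabPtMk_arrow, comp_arrMul]
        exact arrMul_congr G (by rw [pullback.lift_fst_assoc]) (by rw [pullback.lift_snd_assoc])
    · simp only [Category.assoc, stabPtMk_snd, pullback.lift_snd_assoc]
  e_s := stabPtMk_snd _ _ _ _ _ _
  e_t := stabPtMk_snd _ _ _ _ _ _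
  comp_e α := by
    refine stabPt_ext G f ?_ ?_
    · rw [Category.assoc, stabPtMk_arrow, comp_arrMul]
      refine (arrMul_congr G (α' := α ≫ stabPt G f) (β' := (α ≫ stabPt G f) ≫ G.s ≫ G.e)
        (by rw [pullback.lift_fst_assoc]) ?_).trans (G.comp_e _)
      rw [pullback.lift_snd_assoc]
      simp only [Category.assoc, stabPtMk_arrow, reassoc_of% stabPt_s]
    · simp only [Category.assoc, stabPtMk_snd, pullback.lift_snd_assoc, Category.comp_id]
  e_comp α := by
    refine stabPt_ext G f ?_ ?_
    · rw [Category.assoc, stabPtMk_arrow, comp_arrMul]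
      refine (arrMul_congr G (α' := (α ≫ stabPt G f) ≫ G.t ≫ G.e) (β' := α ≫ stabPt G f)
        ?_ (by rw [pullback.lift_snd_assoc])).trans (G.e_comp _)
      rw [pullback.lift_fst_assoc]
      simp only [Category.assoc, stabPtMk_arrow, reassoc_of% stabPt_t]
    · simp only [Category.assoc, stabPtMk_snd, pullback.lift_snd_assoc]
  i_s := stabPtMk_snd _ _ _ _ _ _
  i_t := stabPtMk_snd _ _ _ _ _ _
  comp_i α := by
    refine stabPt_ext G f ?_ ?_
    · rw [Category.assoc, stabPtMk_arrow, comp_arrMul]
      refine (arrMul_congr G (α' := α ≫ stabPt G f) (β' := (α ≫ stabPt G f) ≫ G.i)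
        (by rw [pullback.lift_fst_assoc]) ?_).trans ((G.comp_i _).trans ?_)
      · rw [pullback.lift_snd_assoc]
        simp only [Category.assoc, stabPtMk_arrow]
      · simp only [Category.assoc, stabPtMk_arrow, reassoc_of% stabPt_t]
    · simp only [Category.assoc, stabPtMk_snd, pullback.lift_snd_assoc, Category.comp_id]
  i_comp α := by
    refine stabPt_ext G f ?_ ?_
    · rw [Category.assoc, stabPtMk_arrow, comp_arrMul]
      refine (arrMul_congr G (α' := (α ≫ stabPt G f) ≫ G.i) (β' := α ≫ stabPt G f)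
        ?_ (by rw [pullback.lift_snd_assoc])).trans ((G.i_comp _).trans ?_)
      · rw [pullback.lift_fst_assoc]
        simp only [Category.assoc, stabPtMk_arrow]
      · simp only [Category.assoc, stabPtMk_arrow, reassoc_of% stabPt_s]
    · simp only [Category.assoc, stabPtMk_snd, pullback.lift_snd_assoc, Category.comp_id]

theorem isImmersion_diag : IsImmersion G.diag := by
  have : G.diag ≫ pullback.fst G.pU G.pU = 𝟙 G.U := pullback.lift_fst _ _ _
  haveI : IsImmersion (G.diag ≫ pullback.fst G.pU G.pU) := by rw [this]; infer_instance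
  exact IsImmersion.of_comp G.diag (pullback.fst G.pU G.pU)

theorem isImmersion_stabArrow : IsImmersion (GrpdLib.stabArrow G) := by
  have := isImmersion_diag G
  exact MorphismProperty.pullback_fst (P := @IsImmersion) G.j G.diag this

theorem localDim_le_of_isInducing {X Y : Type*} [TopologicalSpace X] [TopologicalSpace Y] (g : X → Y)
    (hg : Topology.IsInducing g) (x : X) : FlatMor.localDim X x ≤ FlatMor.localDim Y (g x) := by
  refine le_iInf fun V => (iInf_le _ ⟨⟨g ⁻¹' (V.1 : Set Y), V.1.isOpen.preimage hg.continuous⟩, V.2⟩).trans ?_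
  refine Topology.IsInducing.topologicalKrullDim_le (f := fun z : g ⁻¹' (V.1 : Set Y) => (⟨g z.1, z.2⟩ : (V.1 : Set Y))) ?_
  exact Topology.IsInducing.of_comp (g := Subtype.val) (by fun_prop) continuous_subtype_val
    (hg.comp Topology.IsInducing.subtypeVal)

/-- The stabilizer of a point has dimension at most the local dimension of the source fibre at the identity. -/
theorem dim_stab_le_fibreDimAt [LocallyOfFiniteType G.s] (u : G.U) :
    topologicalKrullDim ↥(G.stabilizerToU.fiber u) ≤ FlatMor.fibreDimAt G.s (G.e u) := by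
  let ι := G.U.fromSpecResidueField u
  let H := stabGrpd G ι
  haveI := isImmersion_stabArrow G
  haveI : LocallyOfFiniteType G.stabilizerToU := by rw [← GrpdLib.stabArrow_s]; infer_instance
  haveI : LocallyOfFiniteType H.s := inferInstanceAs (LocallyOfFiniteType (pullback.snd G.stabilizerToU ι))
  let x : ↥(G.stabilizerToU.fiber u) := H.e (IsLocalRing.closedPoint (G.U.residueField u))
  have h1 : FlatMor.localDim ↥(G.stabilizerToU.fiber u) x = topologicalKrullDim ↥(G.stabilizerToU.fiber u) :=
    GrpdField.localDim_eq_of_equidim (k := G.U.residueField u) H.s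
      (fun z hz => GrpdField.ptDim_eq_topologicalKrullDim H (Iso.refl _) hz) x
  rw [← h1]
  let κ : G.stabilizerToU.fiber u ⟶ G.s.fiber u :=
    pullback.lift (stabPt G ι) (pullback.snd _ _) (stabPt_s G ι)
  have hκ : κ ≫ G.s.fiberι u = stabPt G ι := pullback.lift_fst _ _ _
  have hκe : Topology.IsInducing κ := by
    have h2 : Topology.IsInducing (κ ≫ G.s.fiberι u) := by
      rw [hκ, stabPt]
      exact ((GrpdLib.stabArrow G).isEmbedding.comp (pullback.fst G.stabilizerToU ι).isEmbedding).isInducing
    exact Topology.IsInducing.of_comp κ.continuous (G.s.fiberι u).continuous h2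
  have hu : u = G.s (G.e u) := by rw [← Scheme.Hom.comp_apply, G.e_s]; rfl
  have hx : G.s.fiberι u (κ x) = G.e u := by
    rw [← Scheme.Hom.comp_apply, hκ]
    show (H.e ≫ stabPt G ι) _ = _
    rw [show H.e ≫ stabPt G ι = ι ≫ G.e from stabPtMk_arrow G ι (ι ≫ G.e) (𝟙 _) (by simp [G.e_t]) (by simp [G.e_s]), Scheme.Hom.comp_apply]
    exact congrArg G.e ((G.U.range_fromSpecResidueField u).le ⟨_, rfl⟩)
  refine (localDim_le_of_isInducing κ hκe x).trans (le_of_eq ?_)
  have key : ∀ (v : G.U) (hv : v = u) (z : ↥(G.s.fiber v)), G.s.fiberι v z = G.e u → ∀ (z' : ↥(G.s.fiber u)),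
      G.s.fiberι u z' = G.e u → FlatMor.localDim _ z' = FlatMor.localDim _ z := by
    rintro v rfl z hz z' hz'
    rw [(G.s.fiberι v).isEmbedding.injective (hz'.trans hz.symm)]
  exact key (G.s (G.e u)) hu.symm (G.s.asFiber (G.e u)) (G.s.fiberι_asFiber _) (κ x) hx

end Groth.Agent.Stk19b.QDMSlice
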