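import Groth.Agent.Stk19b.QDMSlice.CutAlg
import Groth.Agent.Stk19b.QDMSlice.StabDim
import Groth.Agent.Stk19b.QDMSlice.GrpdMain
import Groth.Agent.VarietyLib.LocalDimPt
import Groth.Agent.EGA43.CMChart.Main
import Groth.Agent.Unram17Lib.RelDim

/-!
# Slices of Cohen–Macaulay groupoid schemes dropping the fibre dimension
-/

set_option autoImplicit false
set_option linter.style.haveILetI false
set_option backward.isDefEq.respectTransparency false
set_option backward.isDefEq.respectTransparency.types false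

universe u

open CategoryTheory CategoryTheory.Limits AlgebraicGeometry

noncomputable section

namespace Groth.Agent.Stk19b.QDMSlice

open FlatMorSlice

/-- A point closed in an affine open is closed in its fibre, and the fibre dimension there is that of
the fibre local ring. -/
theorem fibreDimAt_eq_stalk {X Y : Scheme.{u}} (f : X ⟶ Y) [LocallyOfFiniteType f] {V : X.Opens}
    (hV : IsAffineOpen V) {x : X} (hx : x ∈ V) (hmax : (hV.primeIdealOf ⟨x, hx⟩).asIdeal.IsMaximal) :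
    FlatMor.fibreDimAt f x = ringKrullDim ((f.fiber (f x)).presheaf.stalk (f.asFiber x)) := by
  haveI : LocallyOfFiniteType (f.fiberToSpecResidueField (f x)) :=
    inferInstanceAs (LocallyOfFiniteType (pullback.snd f (Y.fromSpecResidueField (f x))))
  haveI : JacobsonSpace ↥(f.fiber (f x)) := LocallyOfFiniteType.jacobsonSpace (f.fiberToSpecResidueField (f x))
  have hx' : IsLocallyClosed ({x} : Set X) := by
    have h1 : hV.fromSpec '' {hV.primeIdealOf ⟨x, hx⟩} = {x} := by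
      rw [Set.image_singleton, hV.fromSpec_primeIdealOf]
    rw [← h1]
    exact ((PrimeSpectrum.isClosed_singleton_iff_isMaximal _).2 hmax).isLocallyClosed.image
      hV.fromSpec.isOpenEmbedding.isInducing hV.fromSpec.isOpenEmbedding.isOpen_range.isLocallyClosed
  have h2 : IsLocallyClosed ({f.asFiber x} : Set ↥(f.fiber (f x))) := by
    have : (f.fiberι (f x)) ⁻¹' {x} = {f.asFiber x} := by
      ext z
      exact ⟨fun hz => (f.fiberι (f x)).isEmbedding.injective (hz.trans (f.fiberι_asFiber x).symm),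
        fun hz => hz ▸ f.fiberι_asFiber x⟩
    rw [← this]
    exact hx'.preimage (f.fiberι (f x)).continuous
  rw [FlatMor.fibreDimAt, VarietyLib.localDim_eq_stalk_add_ptDim (k := Y.residueField (f x))
    (f.fiberToSpecResidueField (f x)) (f.asFiber x),
    (DimLib.ptDim_eq_zero_iff (k := Y.residueField (f x)) (f.fiberToSpecResidueField (f x)) (f.asFiber x)).2
      (isClosed_singleton_of_isLocallyClosed_singleton h2)]
  simp

theorem isPullback_mono {X Y Z : Scheme.{u}} (f : X ⟶ Y) (a : Y ⟶ Z) [Mono a] :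
    IsPullback (𝟙 X) f (f ≫ a) a := by
  refine ⟨⟨by simp⟩, ⟨PullbackCone.IsLimit.mk _ (fun c => c.fst) (fun c => Category.comp_id _) (fun c => ?_)
    fun c m h₁ _ => (Category.comp_id m).symm.trans h₁⟩⟩
  rw [← cancel_mono a, Category.assoc]
  exact c.condition

variable {S : Scheme.{u}} (G : Grpd.GroupoidScheme S)

theorem fibCM_of_openImmersion_comp {X' X Y : Scheme.{u}} (j : X' ⟶ X) [IsOpenImmersion j] (f : X ⟶ Y) (z : X')
    (hfl : (f.stalkMap (j z)).hom.Flat) (h : CMBC25.FibCM (j ≫ f) z) : CMBC25.FibCM f (j z) := by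
  have h2 : MoreMor.IsCMAt (j ≫ f) z := (CMBC25.moreMor_isCMAt_iff (j ≫ f) z).2
    ⟨by rw [Scheme.Hom.stalkMap_comp, CommRingCat.hom_comp]; exact hfl.comp (Flat.stalkMap j z), h⟩
  exact ((CMBC25.moreMor_isCMAt_iff f (j z)).1 ((EGA43.CMChart.isCMAt_comp_iff j f z).1 h2)).2

/-- The fibre at a maximal prime of a map of affine schemes, from a presentation. -/
theorem spec_fibre {A D R : Type u} [CommRing A] [CommRing D] [Algebra A D] [Algebra.FiniteType A D] [CommRing R]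
    (r : Ideal D) [r.IsMaximal] {ψ : D →+* R} (h : FibPres A r ψ) :
    FlatMor.fibreDimAt (Spec.map (CommRingCat.ofHom (algebraMap A D)))
        (⟨r, inferInstance⟩ : PrimeSpectrum D) = ringKrullDim R ∧
      (LocCoh.IsCohenMacaulayLocalRing R →
        CMBC25.FibCM (Spec.map (CommRingCat.ofHom (algebraMap A D))) (⟨r, inferInstance⟩ : PrimeSpectrum D)) := by
  let F : Spec (CommRingCat.of D) ⟶ Spec (CommRingCat.of A) := Spec.map (CommRingCat.ofHom (algebraMap A D))
  haveI : LocallyOfFiniteType F := (HasRingHomProperty.Spec_iff (P := @LocallyOfFiniteType)).2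
    (RingHom.finiteType_algebraMap.2 inferInstance)
  let z₀ : ↥(Spec (CommRingCat.of D)) := (⟨r, inferInstance⟩ : PrimeSpectrum D)
  have hT := isAffineOpen_top (Spec (CommRingCat.of D))
  have hTA := isAffineOpen_top (Spec (CommRingCat.of A))
  have heT : (⊤ : (Spec (CommRingCat.of D)).Opens) ≤ F ⁻¹ᵁ ⊤ := le_of_eq (by simp)
  let eB : D ≃+* Γ(Spec (CommRingCat.of D), ⊤) := (Scheme.ΓSpecIso (CommRingCat.of D)).symm.commRingCatIsoToRingEquiv
  let eA : A ≃+* Γ(Spec (CommRingCat.of A), ⊤) := (Scheme.ΓSpecIso (CommRingCat.of A)).symm.commRingCatIsoToRingEquiv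
  let qT := (hT.primeIdealOf ⟨z₀, trivial⟩).asIdeal
  have hqT : r = qT.comap eB.toRingHom := by
    ext b
    have h0 : hT.fromSpec (hT.primeIdealOf ⟨z₀, trivial⟩) = z₀ := hT.fromSpec_primeIdealOf ⟨z₀, trivial⟩
    have h1 : eB b ∉ qT ↔ z₀ ∈ (Spec (CommRingCat.of D)).basicOpen (eB b) := by
      conv_rhs => rw [← h0]
      rw [← Scheme.Hom.mem_preimage, hT.fromSpec_preimage_basicOpen]
      rfl
    have h2 : (Spec (CommRingCat.of D)).basicOpen (eB b) = PrimeSpectrum.basicOpen b :=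
      basicOpen_eq_of_affine (R := CommRingCat.of D) b
    rw [h2] at h1
    exact (not_iff_not.1 h1).symm
  obtain ⟨ψT, hψT⟩ := exists_fibPres F hTA hT heT (show z₀ ∈ (⊤ : (Spec (CommRingCat.of D)).Opens) from trivial)
  letI algT : Algebra Γ(Spec (CommRingCat.of A), ⊤) Γ(Spec (CommRingCat.of D), ⊤) := (F.appLE ⊤ ⊤ heT).hom.toAlgebra
  have hF₁ := FibPres.of_ringEquiv (A := A) (B := D) eA eB (fun a => by
      have e := congrArg (fun k => k.hom a) (Scheme.ΓSpecIso_inv_naturality (CommRingCat.ofHom (algebraMap A D)))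
      refine e.trans ?_
      show F.appTop.hom _ = (F.appLE ⊤ ⊤ heT).hom _
      rw [show F.appLE ⊤ ⊤ heT = F.appTop from by simp [Scheme.Hom.appLE]]
      rfl) hψT r hqT
  obtain ⟨eR⟩ := FibPres.nonempty_equiv h hF₁
  have hqTmax : qT.IsMaximal := by
    have : qT = r.comap eB.symm.toRingHom := by
      ext x
      rw [Ideal.mem_comap, hqT, Ideal.mem_comap]
      show _ ↔ eB (eB.symm x) ∈ qT
      rw [eB.apply_symm_apply]
    rw [this]
    exact Ideal.comap_isMaximal_of_surjective _ eB.symm.surjective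
  refine ⟨(fibreDimAt_eq_stalk F hT trivial hqTmax).trans (ringKrullDim_eq_of_ringEquiv eR).symm, fun hR => ?_⟩
  have h' := CMBC25.isCM_fiber_stalk_iff F (F z₀) (F.asFiber z₀)
  rw [Scheme.Hom.fiberι_asFiber] at h'
  exact h'.1 (CAlgH3.isCohenMacaulayLocalRing_of_ringEquiv eR)

/-- Near an identity arrow the two pullbacks of a function agree at it. -/
theorem unit_agree (u : G.U) {W₀ : G.U.Opens} (hW : IsAffineOpen W₀) (huW : u ∈ W₀) (V : G.R.Opens)
    (hV : IsAffineOpen V) (hwV : G.e u ∈ V) (es : V ≤ G.s ⁻¹ᵁ W₀) (et : V ≤ G.t ⁻¹ᵁ W₀) (a : Γ(G.U, W₀)) :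
    G.t.appLE W₀ V et a - G.s.appLE W₀ V es a ∈ (hV.primeIdealOf ⟨G.e u, hwV⟩).asIdeal := by
  obtain ⟨_, ⟨W₁, hW₁', rfl⟩, huW₁, hW₁le⟩ := G.U.isBasis_affineOpens.exists_subset_of_mem_open
    (show u ∈ W₀ ⊓ G.e ⁻¹ᵁ V from ⟨huW, hwV⟩) (W₀ ⊓ G.e ⁻¹ᵁ V).isOpen
  have hW₁ : IsAffineOpen (X := G.U) W₁ := hW₁'
  have e₁ : W₁ ≤ G.e ⁻¹ᵁ V := fun z hz => (hW₁le hz).2
  have h := IsAffineOpen.comap_primeIdealOf_appLE V hV W₁ hW₁ e₁ huW₁
  rw [← congrArg PrimeSpectrum.asIdeal h]
  have key : ∀ (f : G.U ⟶ G.U) (hf : f = 𝟙 G.U) (e : W₁ ≤ f ⁻¹ᵁ W₀),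
      f.appLE W₀ W₁ e = G.U.presheaf.map (homOfLE (fun z hz => (hW₁le hz).1 : W₁ ≤ W₀)).op := by
    rintro f rfl e
    simp [Scheme.Hom.appLE]
  show (G.e.appLE V W₁ e₁).hom (G.t.appLE W₀ V et a - G.s.appLE W₀ V es a) ∈ (hW₁.primeIdealOf ⟨u, huW₁⟩).asIdeal
  rw [map_sub, ← ConcreteCategory.comp_apply, ← ConcreteCategory.comp_apply, Scheme.Hom.appLE_comp_appLE,
    Scheme.Hom.appLE_comp_appLE, key _ G.e_t, key _ G.e_s, sub_self]
  exact zero_mem _

variable [LocallyOfFinitePresentation G.s] [LocallyOfFinitePresentation G.t] [Flat G.s] [Flat G.t]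

set_option maxHeartbeats 1600000 in
/-- A slice through a finite type point lowering the fibre dimension by any `n` with `dim G_u + n ≤ dim F_u`. -/
theorem exists_cut_point {W₀ : G.U.Opens} (hW : IsAffineOpen W₀) (u : G.U) (huW : u ∈ W₀)
    (hu : (hW.primeIdealOf ⟨u, huW⟩).asIdeal.IsMaximal) (hcm : CMBC25.FibCM G.s (G.e u)) (n : ℕ)
    (hn : topologicalKrullDim ↥(G.stabilizerToU.fiber u) + (n : WithBot ℕ∞) ≤ FlatMor.fibreDimAt G.s (G.e u)) :
    ∃ (Z : Scheme.{u}) (g : Z ⟶ G.U) (x : ↥(pullback G.t g)), IsAffine Z ∧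
      IsImmersion g ∧ LocallyOfFinitePresentation g ∧ g (pullback.snd G.t g x) = u ∧
      pullback.fst G.t g x = G.e u ∧ LocallyOfFinitePresentation (τ G.s G.t g) ∧
      ((τ G.s G.t g).stalkMap x).hom.Flat ∧ CMBC25.FibCM (τ G.s G.t g) x ∧
      FlatMor.fibreDimAt (τ G.s G.t g) x + (n : WithBot ℕ∞) = FlatMor.fibreDimAt G.s (G.e u) := by
  let p := G.s
  let q := G.t
  let U := G.U
  let W := G.R
  let w := G.e u
  have hpw : p w = u := by rw [← Scheme.Hom.comp_apply, G.e_s]; rfl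
  have hqw : q w = u := by rw [← Scheme.Hom.comp_apply, G.e_t]; rfl
  have hres := fun V hV hwV e b => rational_at_unit G u hW huW hu V hV hwV e b
  obtain ⟨_, ⟨V, hV', rfl⟩, hwV, hVle⟩ := W.isBasis_affineOpens.exists_subset_of_mem_open
    (show w ∈ p ⁻¹ᵁ W₀ ⊓ q ⁻¹ᵁ W₀ from ⟨by show p w ∈ W₀; rwa [hpw], by show q w ∈ W₀; rwa [hqw]⟩)
    (p ⁻¹ᵁ W₀ ⊓ q ⁻¹ᵁ W₀).isOpen
  have hV : IsAffineOpen (X := W) V := hV'
  have ep : V ≤ p ⁻¹ᵁ W₀ := fun z hz => (hVle hz).1
  have eq' : V ≤ q ⁻¹ᵁ W₀ := fun z hz => (hVle hz).2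
  let A := Γ(U, W₀)
  let B := Γ(W, V)
  let χ : A →+* B := (q.appLE W₀ V eq').hom
  letI : Algebra A B := (p.appLE W₀ V ep).hom.toAlgebra
  have : Algebra.FinitePresentation A B :=
    LocallyOfFinitePresentation.finitePresentation_appLE p hW hV ep
  let qp := (hV.primeIdealOf ⟨w, hwV⟩).asIdeal
  let 𝔭 := (hW.primeIdealOf ⟨u, huW⟩).asIdeal
  haveI : 𝔭.IsMaximal := hu
  have hqpA : qp.comap (algebraMap A B) = 𝔭 := by
    have h := IsAffineOpen.comap_primeIdealOf_appLE W₀ hW V hV ep hwV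
    have : (⟨p w, ep hwV⟩ : W₀) = ⟨u, huW⟩ := Subtype.ext hpw
    rw [this] at h
    exact congrArg PrimeSpectrum.asIdeal h
  have hqpC : qp.comap χ = 𝔭 := by
    have h := IsAffineOpen.comap_primeIdealOf_appLE W₀ hW V hV eq' hwV
    have : (⟨q w, eq' hwV⟩ : W₀) = ⟨u, huW⟩ := Subtype.ext hqw
    rw [this] at h
    exact congrArg PrimeSpectrum.asIdeal h
  have hqmax : qp.IsMaximal := by
    refine Ideal.isMaximal_def.2 ⟨(hV.primeIdealOf ⟨w, hwV⟩).2.ne_top, fun J hJ => ?_⟩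
    obtain ⟨b, hbJ, hb⟩ := SetLike.exists_of_lt hJ
    obtain ⟨a, ha⟩ := hres V hV hwV ep b
    have ha𝔭 : a ∉ 𝔭 := fun h => hb (by
      rw [← hqpA] at h
      have := qp.add_mem ha h
      rwa [show algebraMap A B a = p.appLE W₀ V ep a from rfl, sub_add_cancel] at this)
    obtain ⟨y, m, hm, hym⟩ := Ideal.IsMaximal.exists_inv hu (x := a) ha𝔭
    rw [Ideal.eq_top_iff_one, ← map_one (algebraMap A B), ← hym, map_add, map_mul]
    refine J.add_mem (J.mul_mem_left _ ?_) (hJ.le ?_)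
    · have : algebraMap A B a = b - (b - algebraMap A B a) := by ring
      rw [this]
      exact J.sub_mem hbJ (hJ.le ha)
    · show algebraMap A B m ∈ qp
      rw [← Ideal.mem_comap, hqpA]; exact hm
  -- the chart inside the slice by the open itself
  let c : Spec (CommRingCat.of A) ⟶ (W₀ : Scheme.{u}) := hW.isoSpec.inv
  have hc : c ≫ W₀.ι = hW.fromSpec := hW.isoSpec_inv_ι
  have hqV : hV.fromSpec ≫ q = Spec.map (CommRingCat.ofHom χ) ≫ c ≫ W₀.ι := by
    rw [hc, ← hW.SpecMap_appLE_fromSpec q hV eq']; rfl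
  let ι : Spec (CommRingCat.of B) ⟶ pullback q W₀.ι :=
    pullback.lift hV.fromSpec (Spec.map (CommRingCat.ofHom χ) ≫ c) (by rw [Category.assoc]; exact hqV)
  have : IsOpenImmersion (ι ≫ pullback.fst q W₀.ι) := by rw [pullback.lift_fst]; infer_instance
  have : IsOpenImmersion ι := IsOpenImmersion.of_comp ι (pullback.fst q W₀.ι)
  have hιp : ι ≫ τ p q W₀.ι = Spec.map (CommRingCat.ofHom (algebraMap A B)) ≫ hW.fromSpec := by
    rw [τ, ← Category.assoc, pullback.lift_fst, ← hW.SpecMap_appLE_fromSpec p hV ep]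
    rfl
  -- the fibre ring
  obtain ⟨ψ, hψ⟩ := exists_fibPres p hW hV ep hwV
  let R := (p.fiber (p w)).presheaf.stalk (p.asFiber w)
  haveI : LocCoh.IsCohenMacaulayLocalRing R := by
    have h := CMBC25.isCM_fiber_stalk_iff p (p w) (p.asFiber w)
    rw [Scheme.Hom.fiberι_asFiber] at h
    exact h.2 hcm
  have hdimR : FlatMor.fibreDimAt G.s (G.e u) = ringKrullDim R := fibreDimAt_eq_stalk p hV hwV hqmax
  have hψmem : ∀ b ∈ qp, ψ b ∈ IsLocalRing.maximalIdeal R := by
    intro b hb hu'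
    obtain ⟨v, hv⟩ := hu'
    obtain ⟨b₁, c₁, hc₁, hb₁⟩ := hψ.surj (↑v⁻¹ : R)
    have h0 : ψ (b * b₁ - c₁) = 0 := by
      rw [map_sub, map_mul, ← hb₁, ← hv, Units.mul_inv_cancel_left, sub_self]
    obtain ⟨d, hd, hdm⟩ := hψ.ker _ h0
    have : b * b₁ - c₁ ∈ qp := ((hV.primeIdealOf ⟨w, hwV⟩).2.mem_or_mem
      (Ideal.map_comap_le hdm : d * (b * b₁ - c₁) ∈ qp)).resolve_left hd
    exact hc₁ (by simpa using qp.sub_mem (qp.mul_mem_right b₁ hb) this)
  -- the stabilizer in the chart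
  let δ : A → B := fun a => χ a - algebraMap A B a
  let I : Ideal B := 𝔭.map (algebraMap A B) ⊔ Ideal.span (Set.range δ)
  have hdI : ringKrullDim (B ⧸ I) ≤ topologicalKrullDim ↥(G.stabilizerToU.fiber u) := by
    let x₀ : Spec (CommRingCat.of (B ⧸ I)) ⟶ G.R := Spec.map (CommRingCat.ofHom (Ideal.Quotient.mk I)) ≫ hV.fromSpec
    have hs₀ : x₀ ≫ G.s = Spec.map (CommRingCat.ofHom ((Ideal.Quotient.mk I).comp (algebraMap A B))) ≫ hW.fromSpec := by
      rw [Category.assoc, ← hW.SpecMap_appLE_fromSpec p hV ep, ← Spec.map_comp_assoc]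
      rfl
    have ht₀ : x₀ ≫ G.t = Spec.map (CommRingCat.ofHom ((Ideal.Quotient.mk I).comp χ)) ≫ hW.fromSpec := by
      rw [Category.assoc, ← hW.SpecMap_appLE_fromSpec q hV eq', ← Spec.map_comp_assoc]
      rfl
    have hst : x₀ ≫ G.t = x₀ ≫ G.s := by
      rw [hs₀, ht₀]
      congr 3
      exact RingHom.ext fun a => Ideal.Quotient.eq.2 (Ideal.mem_sup_right (Ideal.subset_span ⟨a, rfl⟩))
    have hpt : ∀ z, (GrpdLib.stabMk G x₀ hst ≫ G.stabilizerToU) z = u := fun z => by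
      rw [GrpdLib.stabMk_toU, hst, hs₀, Scheme.Hom.comp_apply]
      let z' : PrimeSpectrum (B ⧸ I) := z
      have e : Spec.map (CommRingCat.ofHom ((Ideal.Quotient.mk I).comp (algebraMap A B))) z = hW.primeIdealOf ⟨u, huW⟩ := by
        refine PrimeSpectrum.ext (hu.eq_of_le (Spec.map (CommRingCat.ofHom ((Ideal.Quotient.mk I).comp (algebraMap A B))) z).2.ne_top fun a ha => ?_).symm
        show Ideal.Quotient.mk I (algebraMap A B a) ∈ z'.asIdeal
        rw [Ideal.Quotient.eq_zero_iff_mem.2 (Ideal.mem_sup_left (Ideal.mem_map_of_mem _ ha))]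
        exact zero_mem _
      exact (congrArg hW.fromSpec e).trans (hW.fromSpec_primeIdealOf ⟨u, huW⟩)
    let θ : PrimeSpectrum (B ⧸ I) → G.stabilizerToU ⁻¹' {u} := fun z => ⟨GrpdLib.stabMk G x₀ hst z, hpt z⟩
    have hθ : Topology.IsInducing θ := by
      haveI : IsClosedImmersion (Spec.map (CommRingCat.ofHom (Ideal.Quotient.mk I))) :=
        IsClosedImmersion.spec_of_surjective _ Ideal.Quotient.mk_surjective
      have h1 : Topology.IsInducing (GrpdLib.stabMk G x₀ hst) := by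
        refine Topology.IsInducing.of_comp (GrpdLib.stabMk G x₀ hst).continuous (GrpdLib.stabArrow G).continuous ?_
        rw [← show ⇑(GrpdLib.stabMk G x₀ hst ≫ GrpdLib.stabArrow G) = ⇑(GrpdLib.stabArrow G) ∘ ⇑(GrpdLib.stabMk G x₀ hst) from
          funext fun z => Scheme.Hom.comp_apply _ _ _, GrpdLib.stabMk_arrow]
        exact x₀.isEmbedding.isInducing
      exact Topology.IsInducing.of_comp (g := Subtype.val)
        (Continuous.subtype_mk (GrpdLib.stabMk G x₀ hst).continuous _) continuous_subtype_val h1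
    rw [← PrimeSpectrum.topologicalKrullDim_eq_ringKrullDim, (G.stabilizerToU.fiberHomeo u).isHomeomorph.topologicalKrullDim_eq]
    exact hθ.topologicalKrullDim_le
  have h𝔲 : ∀ P : Ideal R, P.IsPrime → 𝔭.map (ψ.comp χ) ≤ P →
      ringKrullDim (R ⧸ P) ≤ topologicalKrullDim ↥(G.stabilizerToU.fiber u) := by
    intro P hP hle
    refine le_trans ?_ hdI
    let P' := P.comap ψ
    have hrq : P' ≤ qp := fun b hb => hψ.mem_of_mem_maximalIdeal (IsLocalRing.le_maximalIdeal hP.ne_top hb)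
    have hA : 𝔭.map (algebraMap A B) ≤ P' := fun b hb => by
      show ψ b ∈ P
      rw [RingHom.mem_ker.1 (hψ.le_ker (by rwa [hqpA]))]; exact P.zero_mem
    have hC : 𝔭 ≤ P'.comap χ := fun a ha => hle (Ideal.mem_map_of_mem _ ha)
    have hI : I ≤ P' := by
      refine sup_le hA (Ideal.span_le.2 ?_)
      rintro _ ⟨a, rfl⟩
      exact mem_of_le_of_comap_eq χ P' qp hrq 𝔭
        (hu.eq_of_le (Ideal.IsPrime.ne_top inferInstance) (Ideal.map_le_iff_le_comap.1 hA)).symm
        (hu.eq_of_le (Ideal.IsPrime.ne_top inferInstance) hC).symm a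
        (unit_agree G u hW huW V hV hwV ep eq' a)
    let l : B ⧸ I →+* R ⧸ P := Ideal.Quotient.lift I ((Ideal.Quotient.mk P).comp ψ) fun b hb =>
      Ideal.Quotient.eq_zero_iff_mem.2 (hI hb)
    refine Order.krullDim_le_of_strictMono (PrimeSpectrum.comap l) ?_
    refine Monotone.strictMono_of_injective (fun Q Q' h => Ideal.comap_mono h) fun Q Q' h => ?_
    have hsub : ∀ Q₁ Q₂ : PrimeSpectrum (R ⧸ P), PrimeSpectrum.comap l Q₁ = PrimeSpectrum.comap l Q₂ →
        Q₁.asIdeal ≤ Q₂.asIdeal := by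
      intro Q₁ Q₂ h r hr
      obtain ⟨r, rfl⟩ := Ideal.Quotient.mk_surjective r
      obtain ⟨b, c, hc, hbc⟩ := hψ.surj r
      have h1 : Ideal.Quotient.mk I b ∈ (PrimeSpectrum.comap l Q₁).asIdeal := by
        show Ideal.Quotient.mk P (ψ b) ∈ Q₁.asIdeal
        rw [← hbc, map_mul]
        exact Ideal.mul_mem_right _ _ hr
      rw [h] at h1
      have h2 : Ideal.Quotient.mk P (ψ b) ∈ Q₂.asIdeal := h1
      rw [← hbc, map_mul] at h2
      exact (Ideal.mul_unit_mem_iff_mem _ ((hψ.unit c hc).map (Ideal.Quotient.mk P))).1 h2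
    exact PrimeSpectrum.ext (le_antisymm (hsub Q Q' h) (hsub Q' Q h.symm))
  have hd₁ : (0 : WithBot ℕ∞) ≤ topologicalKrullDim ↥(G.stabilizerToU.fiber u) := by
    haveI : Nonempty ↥(G.stabilizerToU.fiber u) := by
      obtain ⟨z, -⟩ : G.eStab u ∈ Set.range (G.stabilizerToU.fiberι u) := by
        rw [G.stabilizerToU.range_fiberι]
        show G.stabilizerToU (G.eStab u) = u
        rw [← Scheme.Hom.comp_apply, show G.eStab ≫ G.stabilizerToU = 𝟙 _ from pullback.lift_snd _ _ _]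
        rfl
      exact ⟨z⟩
    rw [DimLib.topologicalKrullDim_eq_krullDim]
    exact Order.krullDim_nonneg
  obtain ⟨β, hβ, hreg₀, hcmQ, hdQ⟩ := exists_cut (ψ.comp χ) 𝔭
    (fun a ha => hψmem _ (show a ∈ qp.comap χ by rwa [hqpC])) _ h𝔲 n (by rwa [← hdimR]) hd₁
  let βB : Fin n → B := fun i => χ (β i)
  have hβq : ∀ i, βB i ∈ qp := fun i => by
    show β i ∈ qp.comap χ
    rw [hqpC]; exact hβ i
  let rs := List.ofFn βB
  have hreg : FibReg A qp rs := by
    intro i hi x hx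
    have hi' : i < n := by simpa [rs] using hi
    have hmap : (Ideal.ofList (rs.take i)).map ψ =
        Ideal.span ((ψ.comp χ ∘ β) '' {j | j < (⟨i, hi'⟩ : Fin n)}) := by
      rw [Ideal.map_ofList]
      refine congrArg Ideal.span (Set.ext fun y => ?_)
      simp only [rs, Set.mem_ofPred_eq, List.mem_map, List.mem_take_iff_getElem, List.getElem_ofFn,
        List.length_ofFn, Set.mem_image]
      constructor
      · rintro ⟨_, ⟨j, hj, rfl⟩, rfl⟩
        exact ⟨⟨j, by omega⟩, by show j < i; omega, rfl⟩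
      · rintro ⟨⟨j, hj⟩, hji, rfl⟩
        exact ⟨_, ⟨j, by have : j < i := hji; omega, rfl⟩, rfl⟩
    rw [← hψ.mem_map_iff, map_mul, hmap] at hx
    rw [← hψ.mem_map_iff, hmap]
    simp only [rs, List.getElem_ofFn] at hx
    exact hreg₀ ⟨i, hi'⟩ _ hx
  obtain ⟨c₀, hc₀, h₁, h₂⟩ := exists_regular_sequence (A := A) ⟨qp, inferInstance⟩
    (flat_localized_of_stalkMap p hW hV ep hwV (Flat.stalkMap p w)) rs hreg
  -- the closed subscheme
  let J : Ideal A := Ideal.span (Set.range β)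
  let JB : Ideal B := J.map χ
  have hJB : JB = Ideal.ofList rs := by
    show J.map χ = _
    rw [Ideal.map_span, Ideal.ofList]
    refine congrArg Ideal.span (Set.ext fun y => ?_)
    simp [rs, βB, List.mem_ofFn]
  have hJle : JB ≤ qp := hJB ▸ Ideal.span_le.2 fun y hy => by
    obtain ⟨i, rfl⟩ := List.mem_ofFn.1 hy
    exact hβq i
  let C₁ := CommRingCat.of (A ⧸ J)
  let mkC : CommRingCat.of A ⟶ C₁ := CommRingCat.ofHom (Ideal.Quotient.mk J)
  let l₁ : Spec C₁ ⟶ (W₀ : Scheme.{u}) := Spec.map mkC ≫ c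
  have : IsClosedImmersion (Spec.map mkC) := IsClosedImmersion.spec_of_surjective _ Ideal.Quotient.mk_surjective
  have : LocallyOfFinitePresentation (Spec.map mkC) :=
    (HasRingHomProperty.Spec_iff (P := @LocallyOfFinitePresentation)).2
      (RingHom.FinitePresentation.of_surjective _ Ideal.Quotient.mk_surjective
        (by rw [CommRingCat.hom_ofHom, Ideal.mk_ker]; exact Submodule.fg_span (Set.finite_range β)))
  have : LocallyOfFinitePresentation l₁ := inferInstanceAs (LocallyOfFinitePresentation (_ ≫ _))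
  have : LocallyOfFinitePresentation (τ G.s G.t W₀.ι) :=
    inferInstanceAs (LocallyOfFinitePresentation (pullback.fst G.t W₀.ι ≫ G.s))
  let g := l₁ ≫ W₀.ι
  have hgp : LocallyOfFinitePresentation (τ G.s G.t g) := lfp_τ_comp G.s G.t W₀.ι l₁
  let k₁ : pullback G.t g ⟶ pullback G.t W₀.ι := pullback.map _ _ _ _ (𝟙 _) l₁ (𝟙 _) (by simp) (by simp [g])
  have hk₁fst : k₁ ≫ pullback.fst G.t W₀.ι = pullback.fst G.t g := (pullback.lift_fst _ _ _).trans (Category.comp_id _)
  have hk₁ : IsPullback k₁ (pullback.snd G.t g) (pullback.snd G.t W₀.ι) l₁ := by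
    refine IsPullback.of_right ?_ (pullback.lift_snd _ _ _) (IsPullback.of_hasPullback G.t W₀.ι)
    rw [hk₁fst]
    exact IsPullback.of_hasPullback G.t (l₁ ≫ W₀.ι)
  have hk₁U : k₁ ≫ τ G.s G.t W₀.ι = τ G.s G.t g := by rw [τ, τ, ← Category.assoc, hk₁fst]
  let χ₁ : A ⧸ J →+* B ⧸ JB := Ideal.quotientMap JB χ Ideal.le_comap_map
  let mkB : CommRingCat.of B ⟶ CommRingCat.of (B ⧸ JB) := CommRingCat.ofHom (Ideal.Quotient.mk JB)
  have sqB : IsPullback (Spec.map mkB) (Spec.map (CommRingCat.ofHom χ₁)) (Spec.map (CommRingCat.ofHom χ) ≫ c) l₁ := by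
    have hpo : IsPushout mkC (CommRingCat.ofHom χ) (CommRingCat.ofHom χ₁) mkB := by
      refine IsPushout.of_isColimit' ⟨by ext a; rfl⟩ (PushoutCocone.isColimitAux' _ fun t => ?_)
      have hle : JB ≤ RingHom.ker t.inr.hom := Ideal.map_le_iff_le_comap.2 fun a ha => by
        show t.inr.hom (χ a) = 0
        rw [show t.inr.hom (χ a) = (CommRingCat.ofHom χ ≫ t.inr).hom a from rfl, ← t.condition]
        show t.inl.hom (Ideal.Quotient.mk J a) = 0
        rw [Ideal.Quotient.eq_zero_iff_mem.2 ha, map_zero]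
      refine ⟨CommRingCat.ofHom (Ideal.Quotient.lift _ t.inr.hom fun b hb => hle hb), ?_, ?_, fun {m} h₁ h₂ => ?_⟩
      · ext a
        exact (RingHom.congr_fun (congrArg CommRingCat.Hom.hom t.condition) a).symm
      · ext b; rfl
      · exact CommRingCat.hom_ext (Ideal.Quotient.ringHom_ext (congrArg CommRingCat.Hom.hom h₂))
    have h2 := (isPullback_SpecMap_of_isPushout _ _ _ _ hpo).flip.paste_vert (IsPullback.of_vert_isIso
      (fst := Spec.map mkC) (snd := 𝟙 _) (f := c) (g := l₁) ⟨by simp [l₁]⟩)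
    rwa [Category.comp_id] at h2
  let ι₁ : Spec (CommRingCat.of (B ⧸ JB)) ⟶ pullback G.t g :=
    hk₁.lift (Spec.map mkB ≫ ι) (Spec.map (CommRingCat.ofHom χ₁)) (by
      rw [Category.assoc, pullback.lift_snd]; exact sqB.w)
  have sqι : IsPullback (Spec.map mkB) ι₁ ι k₁ := by
    refine IsPullback.of_bot ?_ (hk₁.lift_fst _ _ _).symm hk₁
    rw [hk₁.lift_snd, pullback.lift_snd]; exact sqB
  have : IsOpenImmersion ι₁ := MorphismProperty.of_isPullback (P := @IsOpenImmersion) sqι ‹IsOpenImmersion ι›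
  have hι₁ : ι₁ ≫ τ G.s G.t g = Spec.map (CommRingCat.ofHom (algebraMap A (B ⧸ JB))) ≫ hW.fromSpec := by
    rw [← hk₁U, reassoc_of% (hk₁.lift_fst _ _ _ : ι₁ ≫ k₁ = _), hιp, ← Spec.map_comp_assoc]
    rfl
  -- the point
  let r' : Ideal (B ⧸ JB) := qp.map (Ideal.Quotient.mk JB)
  have : r'.IsPrime := Ideal.map_isPrime_of_surjective Ideal.Quotient.mk_surjective (by rwa [Ideal.mk_ker])
  have hr' : r'.comap (Ideal.Quotient.mk JB) = qp := by
    rw [Ideal.comap_map_of_surjective _ Ideal.Quotient.mk_surjective, ← RingHom.ker_eq_comap_bot,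
      Ideal.mk_ker, sup_eq_left.2 hJle]
  haveI : Algebra.FinitePresentation A (B ⧸ JB) := Algebra.FinitePresentation.quotient
    (Ideal.FG.map (I := J) (Submodule.fg_span (Set.finite_range β)) χ)
  let L := Localization.Away c₀
  have hflat := (isWeaklyRegular_and_flat_away (A := A) rs h₁ h₂ (dvd_refl c₀) L).2
  let π₁ : B ⧸ JB →+* L ⧸ (Ideal.ofList rs).map (algebraMap B L) :=
    Ideal.quotientMap _ (algebraMap B L) (hJB ▸ Ideal.le_comap_map)
  let z₀ : PrimeSpectrum (B ⧸ JB) := ⟨r', inferInstance⟩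
  let pt : ↥(pullback G.t g) := ι₁ z₀
  have hfl : ((τ G.s G.t g).stalkMap pt).hom.Flat := by
    have hc₀' : Ideal.Quotient.mk JB c₀ ∉ r' := fun h' => hc₀ (by
      show c₀ ∈ qp
      rw [← hr']; exact h')
    let d := Ideal.Quotient.mk JB c₀
    let D := Localization.Away d
    let je : Spec (CommRingCat.of D) ⟶ Spec (CommRingCat.of (B ⧸ JB)) :=
      Spec.map (CommRingCat.ofHom (algebraMap (B ⧸ JB) D))
    have : IsOpenImmersion je := IsOpenImmersion.of_isLocalization d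
    have : Module.Flat A D := by
      haveI : IsLocalization.Away d (L ⧸ JB.map (algebraMap B L)) := by
        have h : IsLocalization (Algebra.algebraMapSubmonoid (B ⧸ JB) (Submonoid.powers c₀))
            (L ⧸ JB.map (algebraMap B L)) := inferInstance
        rwa [Algebra.algebraMapSubmonoid, Submonoid.map_powers] at h
      haveI : IsScalarTower A (B ⧸ JB) (L ⧸ JB.map (algebraMap B L)) := .of_algebraMap_eq fun _ => rfl
      have : Module.Flat A (L ⧸ JB.map (algebraMap B L)) := by rw [hJB]; exact hflat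
      exact Module.Flat.of_linearEquiv
        ((IsLocalization.algEquiv (Submonoid.powers d) D (L ⧸ JB.map (algebraMap B L))).restrictScalars A).toLinearEquiv
    obtain ⟨y₀, hy₀⟩ : z₀ ∈ Set.range je := by
      rw [show (Set.range je : Set (PrimeSpectrum (B ⧸ JB))) = PrimeSpectrum.basicOpen d from
        PrimeSpectrum.localization_away_comap_range _ d]
      exact hc₀'
    have hFl : Flat ((je ≫ ι₁) ≫ τ G.s G.t g) := by
      rw [Category.assoc, hι₁, ← Category.assoc, ← Spec.map_comp]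
      have : Flat (Spec.map (CommRingCat.ofHom (algebraMap A (B ⧸ JB)) ≫ CommRingCat.ofHom (algebraMap (B ⧸ JB) D))) := by
        refine (HasRingHomProperty.Spec_iff (P := @Flat)).2 ?_
        rw [← CommRingCat.ofHom_comp, ← IsScalarTower.algebraMap_eq]
        exact RingHom.flat_algebraMap_iff.2 ‹_›
      exact MorphismProperty.comp_mem @Flat _ _ this inferInstance
    rw [show pt = (je ≫ ι₁) y₀ by rw [Scheme.Hom.comp_apply, hy₀]]
    exact (Desc19b.flat_stalkMap_comp_iff (je ≫ ι₁) _ y₀ (Flat.stalkMap _ _)).1 (Flat.stalkMap _ _)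
  -- the fibre of the slice
  let F : Spec (CommRingCat.of (B ⧸ JB)) ⟶ Spec (CommRingCat.of A) :=
    Spec.map (CommRingCat.ofHom (algebraMap A (B ⧸ JB)))
  haveI : LocallyOfFiniteType F := (HasRingHomProperty.Spec_iff (P := @LocallyOfFiniteType)).2
    (RingHom.finiteType_algebraMap.2 inferInstance)
  have hr'max : r'.IsMaximal := Ideal.IsMaximal.map_of_surjective_of_ker_le Ideal.Quotient.mk_surjective (by rwa [Ideal.mk_ker])
  have hJψ : JB.map ψ = Ideal.span (Set.range (ψ.comp χ ∘ β)) := by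
    show (J.map χ).map ψ = _
    rw [Ideal.map_map, Ideal.map_span, ← Set.range_comp]
  have hsp := spec_fibre r' (FibPres.quotient hψ JB hJle)
  have hdimF : FlatMor.fibreDimAt F z₀ + (n : WithBot ℕ∞) = ringKrullDim R := by
    rw [hsp.1, ringKrullDim_eq_of_ringEquiv (Ideal.quotEquivOfEq hJψ)]
    exact hdQ
  have hcmF : CMBC25.FibCM F z₀ := by
    haveI := hcmQ
    exact hsp.2 (CAlgH3.isCohenMacaulayLocalRing_of_ringEquiv (Ideal.quotEquivOfEq hJψ).symm)
  refine ⟨Spec C₁, g, pt, inferInstance, inferInstance, inferInstance, ?_, ?_, hgp, hfl, ?_, ?_⟩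
  · have e1 : (ι₁ ≫ pullback.snd G.t g) z₀ = Spec.map (CommRingCat.ofHom χ₁) z₀ := by rw [hk₁.lift_snd]
    show g ((pullback.snd G.t g) (ι₁ z₀)) = u
    rw [← Scheme.Hom.comp_apply ι₁, e1, ← Scheme.Hom.comp_apply]
    have e2 : Spec.map (CommRingCat.ofHom χ₁) ≫ g = Spec.map mkB ≫ hV.fromSpec ≫ q := by
      rw [hqV]
      show Spec.map (CommRingCat.ofHom χ₁) ≫ l₁ ≫ W₀.ι = _
      rw [← Category.assoc, ← sqB.w]
      simp only [Category.assoc]
    rw [e2, Scheme.Hom.comp_apply, Scheme.Hom.comp_apply]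
    have e3 : hV.fromSpec (Spec.map mkB z₀) = w := (congrArg hV.fromSpec (PrimeSpectrum.ext hr' :
      (Spec.map mkB z₀ : PrimeSpectrum Γ(W, V)) = hV.primeIdealOf ⟨w, hwV⟩)).trans (hV.fromSpec_primeIdealOf ⟨w, hwV⟩)
    exact (congrArg q e3).trans hqw
  · show pullback.fst G.t g (ι₁ z₀) = w
    obtain ⟨k₂, hk₂, hk₂U⟩ : ∃ k₂, ι₁ ≫ pullback.fst G.t g = k₂ ∧ k₂ = Spec.map mkB ≫ hV.fromSpec := by
      refine ⟨_, rfl, ?_⟩
      have e : k₁ ≫ pullback.fst G.t W₀.ι = pullback.fst G.t g := hk₁fst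
      rw [← e, ← Category.assoc, hk₁.lift_fst, Category.assoc, pullback.lift_fst]
    rw [← Scheme.Hom.comp_apply, hk₂, hk₂U, Scheme.Hom.comp_apply]
    exact (congrArg hV.fromSpec (PrimeSpectrum.ext hr' :
      (Spec.map mkB z₀ : PrimeSpectrum Γ(W, V)) = hV.primeIdealOf ⟨w, hwV⟩)).trans (hV.fromSpec_primeIdealOf ⟨w, hwV⟩)
  · haveI : LocallyOfFiniteType (F ≫ hW.fromSpec) := inferInstance
    have sq : IsPullback (𝟙 _) F (F ≫ hW.fromSpec) hW.fromSpec := isPullback_mono F hW.fromSpec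
    have h1 : CMBC25.FibCM (F ≫ hW.fromSpec) z₀ := (CMBC25.fibCM_iff_of_isPullback sq z₀).1 hcmF
    rw [show F ≫ hW.fromSpec = ι₁ ≫ τ G.s G.t g from hι₁.symm] at h1
    exact fibCM_of_openImmersion_comp ι₁ (τ G.s G.t g) z₀ hfl h1
  · rw [hdimR, ← hdimF]
    congr 1
    exact Unram17Lib.fibreDimAt_eq_of_openImmersion ι₁ hW.fromSpec hι₁ z₀

end Groth.Agent.Stk19b.QDMSlice
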