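import Groth.Agent.FlatMorSlice.CM
import Groth.Agent.CAlgH3.CMRing
import Groth.Agent.Stk19b.FieldImage
import Mathlib.RingTheory.Ideal.Operations
import Mathlib.RingTheory.Ideal.KrullsHeightTheorem

/-!
# Cutting a Cohen–Macaulay fibre ring by elements of an ideal avoiding its big components
-/

set_option autoImplicit false
set_option backward.isDefEq.respectTransparency false

universe u

noncomputable section

open Function

namespace Groth.Agent.Stk19b.QDMSlice

open FlatMorSlice IsLocalRing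

/-- Over a maximal ideal of both factors, the two images of the base agree on all components through a point
where they agree. -/
theorem mem_of_le_of_comap_eq {A B : Type u} [CommRing A] [CommRing B] [Algebra A B] [Algebra.FiniteType A B]
    (χ : A →+* B) (P m : Ideal B) [P.IsPrime] [m.IsPrime] (hle : P ≤ m) (p : Ideal A) [p.IsMaximal]
    (hPA : P.comap (algebraMap A B) = p) (hPC : P.comap χ = p) (a : A) (ha : χ a - algebraMap A B a ∈ m) :
    χ a - algebraMap A B a ∈ P := by
  letI : Field (A ⧸ p) := Ideal.Quotient.field p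
  letI : Algebra (A ⧸ p) (B ⧸ P) :=
    (Ideal.quotientMap P (algebraMap A B) hPA.ge).toAlgebra
  haveI : IsScalarTower A (A ⧸ p) (B ⧸ P) := .of_algebraMap_eq fun _ => rfl
  haveI : Algebra.FiniteType (A ⧸ p) (B ⧸ P) := Algebra.FiniteType.of_restrictScalars_finiteType A _ _
  by_contra hyP
  let y := χ a - algebraMap A B a
  have halg : IsAlgebraic (A ⧸ p) (Ideal.Quotient.mk P y) := by
    have h1 := FieldImage.isAlgebraic_of_ringHom (k := A ⧸ p) (Ideal.quotientMap P χ hPC.ge) (Ideal.Quotient.mk p a)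
    rw [Ideal.quotientMap_mk] at h1
    rw [map_sub]
    exact h1.sub (isAlgebraic_algebraMap (A := B ⧸ P) (Ideal.Quotient.mk p a))
  obtain ⟨r, hr, hdvd⟩ := IsAlgebraic.exists_nonzero_dvd halg
    (mem_nonZeroDivisors_of_ne_zero fun e => hyP (Ideal.Quotient.eq_zero_iff_mem.1 e))
  have hu : IsUnit (Ideal.Quotient.mk P y) :=
    isUnit_of_dvd_unit hdvd ((IsUnit.mk0 r hr).map (algebraMap (A ⧸ p) (B ⧸ P)))
  have := hu.map (Ideal.Quotient.factor hle)
  rw [Ideal.Quotient.factor_mk, Ideal.Quotient.eq_zero_iff_mem.2 ha] at this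
  have : Nontrivial (B ⧸ m) := Ideal.Quotient.nontrivial_iff.2 (Ideal.IsPrime.ne_top')
  exact not_isUnit_zero ‹IsUnit (0 : B ⧸ m)›

variable {R C : Type u} [CommRing R] [CommRing C]

/-- A regular sequence of elements of an ideal contained in no prime of large coheight. -/
theorem exists_cut [LocCoh.IsCohenMacaulayLocalRing R] (φ : C →+* R) (𝔲 : Ideal C)
    (hmem : ∀ c ∈ 𝔲, φ c ∈ maximalIdeal R) (d₁ : WithBot ℕ∞)
    (h𝔲 : ∀ P : Ideal R, P.IsPrime → 𝔲.map φ ≤ P → ringKrullDim (R ⧸ P) ≤ d₁) (n : ℕ)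
    (hn : d₁ + (n : WithBot ℕ∞) ≤ ringKrullDim R) (h0 : 0 ≤ d₁) :
    ∃ β : Fin n → C, (∀ i, β i ∈ 𝔲) ∧
      (∀ (i : Fin n) (x : R), φ (β i) * x ∈ Ideal.span ((φ ∘ β) '' {j | j < i}) →
        x ∈ Ideal.span ((φ ∘ β) '' {j | j < i})) ∧
      LocCoh.IsCohenMacaulayLocalRing (R ⧸ Ideal.span (Set.range (φ ∘ β))) ∧
      ringKrullDim (R ⧸ Ideal.span (Set.range (φ ∘ β))) + (n : WithBot ℕ∞) = ringKrullDim R := by
  classical
  induction n with
  | zero =>
    refine ⟨Fin.elim0, fun i => i.elim0, fun i => i.elim0, ?_, ?_⟩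
    · exact CAlgH3.isCohenMacaulayLocalRing_of_ringEquiv
        ((RingEquiv.quotientBot R).symm.trans (Ideal.quotEquivOfEq (by simp)))
    · rw [ringKrullDim_eq_of_ringEquiv ((Ideal.quotEquivOfEq (show _ = (⊥ : Ideal R) by simp)).trans
        (RingEquiv.quotientBot R)), Nat.cast_zero, add_zero]
  | succ n ih =>
    obtain ⟨β, hβ, hreg, hcm, hd⟩ := ih (le_trans (by gcongr; simp) hn)
    let I := Ideal.span (Set.range (φ ∘ β))
    have := hcm
    have hself : LocCoh.IsCohenMacaulayModule (R ⧸ I) (R ⧸ I) := (CAlgH3.isCohenMacaulayLocalRing_iff _).1 hcm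
    have hdlt : ¬ (ringKrullDim (R ⧸ I) ≤ d₁) := by
      intro hle
      have h2 : ringKrullDim R + (1 : ℕ) ≤ ringKrullDim R + (0 : ℕ) := by
        refine le_trans ?_ (hn.trans (by simp))
        rw [← hd, Nat.cast_add, ← add_assoc]
        gcongr
      have h3 := ringKrullDim_lt_top (R := R)
      have h4 := ringKrullDim_ne_bot (R := R)
      revert h2 h3 h4
      generalize ringKrullDim R = x
      intro h2 h3 h4
      induction x with
      | bot => exact h4 rfl
      | coe x =>
        induction x using ENat.recTopCoe with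
        | top => exact lt_irrefl _ h3
        | coe x => norm_cast at h2; omega
    obtain ⟨f, hf, hfP⟩ : ∃ f ∈ 𝔲, ∀ P ∈ associatedPrimes (R ⧸ I) (R ⧸ I), Ideal.Quotient.mk I (φ f) ∉ P := by
      by_contra! hcon
      have hsub : (𝔲 : Set C) ⊆ ⋃ P ∈ associatedPrimes (R ⧸ I) (R ⧸ I),
          (P.comap ((Ideal.Quotient.mk I).comp φ) : Set C) := fun x hx => by
        obtain ⟨P, hP, hxP⟩ := hcon x hx
        exact Set.mem_biUnion hP hxP
      obtain ⟨P, hP, hle⟩ := (Ideal.subset_union_prime_finite (associatedPrimes.finite _ _) ⊥ ⊥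
        fun P hP _ _ => (IsAssociatedPrime.isPrime hP).comap _).1 hsub
      haveI : P.IsPrime := IsAssociatedPrime.isPrime hP
      apply hdlt
      have h1 := CAlgH3.ringKrullDim_quotient_eq_of_mem_associatedPrimes hself hP
      rw [Module.supportDim_self_eq_ringKrullDim] at h1
      rw [← h1]
      have h2 := h𝔲 (P.comap (Ideal.Quotient.mk I)) inferInstance (Ideal.map_le_iff_le_comap.2 fun c hc => hle hc)
      refine le_trans (le_of_eq ?_) h2
      exact (ringKrullDim_eq_of_ringEquiv (RingEquiv.ofBijective (Ideal.quotientMap P (Ideal.Quotient.mk I) le_rfl)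
        ⟨Ideal.quotientMap_injective, Ideal.quotientMap_surjective Ideal.Quotient.mk_surjective⟩)).symm
    have hreg' : IsSMulRegular (R ⧸ I) (Ideal.Quotient.mk I (φ f)) := by
      suffices h : Ideal.Quotient.mk I (φ f) ∈ nonZeroDivisors (R ⧸ I) from fun x y hxy =>
        sub_eq_zero.1 ((mem_nonZeroDivisors_iff.1 h).1 (x - y) (by simpa [mul_sub, sub_eq_zero] using hxy))
      by_contra h
      obtain ⟨P, hP, hfP'⟩ := Set.mem_iUnion₂.1
        ((biUnion_associatedPrimes_eq_compl_nonZeroDivisors (R ⧸ I)).ge h)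
      exact hfP P hP hfP'
    have hfm : Ideal.Quotient.mk I (φ f) ∈ maximalIdeal (R ⧸ I) := by
      haveI : IsLocalHom (Ideal.Quotient.mk I) := IsLocalHom.of_surjective _ Ideal.Quotient.mk_surjective
      exact map_nonunit (Ideal.Quotient.mk I) _ (hmem f hf)
    let J := Ideal.span (Set.range (φ ∘ Fin.snoc β f))
    have hJ : J = I ⊔ Ideal.span {φ f} := by
      rw [← Ideal.span_union]
      refine congrArg Ideal.span (Set.ext fun y => ?_)
      constructor
      · rintro ⟨i, rfl⟩
        induction i using Fin.lastCases with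
        | last => right; simp
        | cast j => left; exact ⟨j, by simp⟩
      · rintro (⟨j, rfl⟩ | rfl)
        · exact ⟨j.castSucc, by simp⟩
        · exact ⟨Fin.last n, by simp⟩
    let e : R ⧸ J ≃+* (R ⧸ I) ⧸ Ideal.span {Ideal.Quotient.mk I (φ f)} :=
      ((Ideal.quotEquivOfEq hJ).trans (DoubleQuot.quotQuotEquivQuotSup I _).symm).trans
        (Ideal.quotEquivOfEq (by rw [Ideal.map_span, Set.image_singleton]))
    haveI : IsLocalRing ((R ⧸ I) ⧸ Ideal.span {Ideal.Quotient.mk I (φ f)}) :=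
      haveI : Nontrivial ((R ⧸ I) ⧸ Ideal.span {Ideal.Quotient.mk I (φ f)}) := Ideal.Quotient.nontrivial_iff.2
        fun h => (maximalIdeal.isMaximal (R ⧸ I)).ne_top (top_le_iff.1 (h ▸ (Ideal.span_singleton_le_iff_mem _).2 hfm))
      .of_surjective' _ Ideal.Quotient.mk_surjective
    haveI := (CAlgH3.isCohenMacaulayLocalRing_quotient_span_iff hfm hreg').2 hcm
    refine ⟨Fin.snoc β f, fun i => ?_, fun i x hx => ?_, CAlgH3.isCohenMacaulayLocalRing_of_ringEquiv e.symm, ?_⟩
    · induction i using Fin.lastCases with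
      | last => rwa [Fin.snoc_last]
      | cast j => rw [Fin.snoc_castSucc]; exact hβ j
    · induction i using Fin.lastCases with
      | last =>
        have he : (φ ∘ Fin.snoc β f) '' {j | j < Fin.last n} = Set.range (φ ∘ β) := by
          ext y
          constructor
          · rintro ⟨j, hj, rfl⟩
            obtain ⟨k, rfl⟩ := Fin.exists_castSucc_eq.2 hj.ne
            exact ⟨k, by simp⟩
          · rintro ⟨k, rfl⟩
            exact ⟨k.castSucc, k.castSucc_lt_last, by simp⟩
        rw [he, Fin.snoc_last] at hx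
        rw [he, ← Ideal.Quotient.eq_zero_iff_mem]
        refine hreg' ?_
        simp only [smul_eq_mul, mul_zero]
        rw [← map_mul]
        exact Ideal.Quotient.eq_zero_iff_mem.2 hx
      | cast j =>
        have he : (φ ∘ Fin.snoc β f) '' {k | k < j.castSucc} = (φ ∘ β) '' {k | k < j} := by
          ext y
          constructor
          · rintro ⟨k, hk, rfl⟩
            obtain ⟨k', rfl⟩ := Fin.exists_castSucc_eq.2 (hk.trans j.castSucc_lt_last).ne
            exact ⟨k', Fin.castSucc_lt_castSucc_iff.1 hk, by simp⟩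
          · rintro ⟨k, hk, rfl⟩
            exact ⟨k.castSucc, Fin.castSucc_lt_castSucc_iff.2 hk, by simp⟩
        rw [he, Fin.snoc_castSucc] at hx
        rw [he]
        exact hreg j x hx
    · rw [ringKrullDim_eq_of_ringEquiv e, Nat.cast_add, Nat.cast_one, add_comm (n : WithBot ℕ∞), ← add_assoc,
        ringKrullDim_quotient_span_singleton_succ_eq_ringKrullDim_of_mem_jacobson hreg'
          (by rwa [ringJacobson_eq_maximalIdeal]), hd]

/-- Two presentations of the same fibre ring agree. -/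
theorem FibPres.nonempty_equiv {A B R R' : Type u} [CommRing A] [CommRing B] [Algebra A B] [CommRing R] [CommRing R']
    {q : Ideal B} [q.IsPrime] {ψ : B →+* R} {ψ' : B →+* R'} (h : FibPres A q ψ) (h' : FibPres A q ψ') :
    Nonempty (R ≃+* R') := by
  let I := (q.comap (algebraMap A B)).map (algebraMap A B)
  let M : Submonoid (B ⧸ I) := q.primeCompl.map (Ideal.Quotient.mk I).toMonoidHom
  have key : ∀ {T : Type u} [CommRing T] {ψ : B →+* T} (h : FibPres A q ψ),
      @IsLocalization _ _ M T _ (Ideal.Quotient.lift I ψ fun b hb => h.le_ker hb).toAlgebra := by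
    intro T _ ψ h
    letI := (Ideal.Quotient.lift I ψ fun b hb => h.le_ker hb).toAlgebra
    refine ⟨⟨?_, ?_, ?_⟩⟩
    · rintro ⟨_, c, hc, rfl⟩
      exact h.unit c hc
    · intro r
      obtain ⟨b, c, hc, hbc⟩ := h.surj r
      exact ⟨(Ideal.Quotient.mk I b, ⟨_, c, hc, rfl⟩), hbc⟩
    · intro x y hxy
      obtain ⟨x, rfl⟩ := Ideal.Quotient.mk_surjective x
      obtain ⟨y, rfl⟩ := Ideal.Quotient.mk_surjective y
      have h0 : ψ (x - y) = 0 := by rw [map_sub, sub_eq_zero]; exact hxy
      obtain ⟨c, hc, hcm⟩ := h.ker _ h0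
      refine ⟨⟨_, c, hc, rfl⟩, ?_⟩
      show Ideal.Quotient.mk I c * Ideal.Quotient.mk I x = Ideal.Quotient.mk I c * Ideal.Quotient.mk I y
      rw [← map_mul, ← map_mul, ← sub_eq_zero, ← map_sub, ← mul_sub]
      exact Ideal.Quotient.eq_zero_iff_mem.2 hcm
  letI := (Ideal.Quotient.lift I ψ fun b hb => h.le_ker hb).toAlgebra
  letI := (Ideal.Quotient.lift I ψ' fun b hb => h'.le_ker hb).toAlgebra
  haveI := key h
  haveI := key h'
  exact ⟨(IsLocalization.algEquiv M R R').toRingEquiv⟩

/-- The slice of a presentation by a family of elements. -/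
theorem FibPres.quotient {A B R : Type u} [CommRing A] [CommRing B] [Algebra A B] [CommRing R]
    {q : Ideal B} [q.IsPrime] {ψ : B →+* R} (h : FibPres A q ψ) (J : Ideal B) (hJ : J ≤ q) :
    FibPres A (q.map (Ideal.Quotient.mk J)) (Ideal.quotientMap (J.map ψ) ψ Ideal.le_comap_map) := by
  have hq : (q.map (Ideal.Quotient.mk J)).comap (Ideal.Quotient.mk J) = q := by
    rw [Ideal.comap_map_of_surjective _ Ideal.Quotient.mk_surjective, ← RingHom.ker_eq_comap_bot,
      Ideal.mk_ker, sup_eq_left.2 hJ]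
  have hI : ((q.map (Ideal.Quotient.mk J)).comap (algebraMap A (B ⧸ J))).map (algebraMap A (B ⧸ J)) =
      ((q.comap (algebraMap A B)).map (algebraMap A B)).map (Ideal.Quotient.mk J) := by
    rw [IsScalarTower.algebraMap_eq A B (B ⧸ J), ← Ideal.comap_comap, ← Ideal.map_map, Ideal.Quotient.algebraMap_eq, hq]
  refine ⟨fun c hc => ?_, fun r => ?_, fun b hb => ?_, ?_⟩
  · obtain ⟨c, rfl⟩ := Ideal.Quotient.mk_surjective c
    rw [Ideal.quotientMap_mk]
    exact (h.unit c fun hcq => hc (Ideal.mem_map_of_mem _ hcq)).map _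
  · obtain ⟨r, rfl⟩ := Ideal.Quotient.mk_surjective r
    obtain ⟨b, c, hc, hbc⟩ := h.surj r
    refine ⟨Ideal.Quotient.mk J b, Ideal.Quotient.mk J c, fun hcq => hc ?_, ?_⟩
    · rw [← hq]; exact hcq
    · rw [Ideal.quotientMap_mk, Ideal.quotientMap_mk, ← map_mul, hbc]
  · obtain ⟨b, rfl⟩ := Ideal.Quotient.mk_surjective b
    rw [Ideal.quotientMap_mk, Ideal.Quotient.eq_zero_iff_mem, h.mem_map_iff] at hb
    obtain ⟨c, hc, hcb⟩ := hb
    refine ⟨Ideal.Quotient.mk J c, fun hcq => hc (hq ▸ hcq), ?_⟩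
    rw [hI, ← map_mul]
    rw [← Ideal.mem_comap, Ideal.comap_map_of_surjective _ Ideal.Quotient.mk_surjective, ← RingHom.ker_eq_comap_bot,
      Ideal.mk_ker]
    exact hcb
  · rw [hI, Ideal.map_le_iff_le_comap]
    intro b hb
    rw [Ideal.mem_comap, RingHom.mem_ker, Ideal.quotientMap_mk, RingHom.mem_ker.1 (h.le_ker hb), map_zero]

/-- Presentations transport along isomorphisms of charts. -/
theorem FibPres.of_ringEquiv {A B A' B' R : Type u} [CommRing A] [CommRing B] [Algebra A B] [CommRing A']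
    [CommRing B'] [Algebra A' B'] [CommRing R] (eA : A ≃+* A') (eB : B ≃+* B')
    (he : ∀ a, eB (algebraMap A B a) = algebraMap A' B' (eA a)) {q' : Ideal B'} {ψ : B' →+* R}
    (h : FibPres A' q' ψ) (q : Ideal B) (hq : q = q'.comap eB.toRingHom) : FibPres A q (ψ.comp eB.toRingHom) := by
  subst hq
  have hI : ∀ b, eB b ∈ (q'.comap (algebraMap A' B')).map (algebraMap A' B') ↔
      b ∈ ((q'.comap eB.toRingHom).comap (algebraMap A B)).map (algebraMap A B) := by
    intro b
    have hmap : (((q'.comap eB.toRingHom).comap (algebraMap A B)).map (algebraMap A B)).map eB.toRingHom =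
        (q'.comap (algebraMap A' B')).map (algebraMap A' B') := by
      have e : eB.toRingHom.comp (algebraMap A B) = (algebraMap A' B').comp eA.toRingHom := RingHom.ext he
      rw [Ideal.map_map, Ideal.comap_comap, e, ← Ideal.comap_comap, ← Ideal.map_map,
        Ideal.map_comap_of_surjective eA.toRingHom eA.surjective]
    rw [← hmap]
    constructor
    · intro h
      obtain ⟨b', hb', hbb⟩ := (Ideal.mem_map_iff_of_surjective eB.toRingHom eB.surjective).1 h
      rwa [← eB.injective hbb]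
    · exact fun h => Ideal.mem_map_of_mem eB.toRingHom h
  refine ⟨fun c hc => h.unit _ hc, fun r => ?_, fun b hb => ?_, fun b hb => h.le_ker ((hI b).2 hb)⟩
  · obtain ⟨b, c, hc, hbc⟩ := h.surj r
    refine ⟨eB.symm b, eB.symm c, fun h' => hc ?_, ?_⟩
    · exact eB.apply_symm_apply c ▸ (Ideal.mem_comap.1 h')
    · simpa using hbc
  · obtain ⟨c, hc, hcb⟩ := h.ker _ hb
    refine ⟨eB.symm c, fun h' => hc (eB.apply_symm_apply c ▸ (Ideal.mem_comap.1 h')), (hI _).1 ?_⟩
    simpa using hcb

end Groth.Agent.Stk19b.QDMSlice
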