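import Groth.Agent.Stk19b.Fppf.SliceLocus
import Groth.Agent.AlgSpLib.EtLocalInst

/-!
# Point properties of morphisms unchanged by étale precomposition
-/

set_option autoImplicit false
set_option backward.isDefEq.respectTransparency false
set_option backward.isDefEq.respectTransparency.types false

universe u

open CategoryTheory CategoryTheory.Limits AlgebraicGeometry

noncomputable section

namespace Groth.Agent.Stk19b.QDMSlice

/-- A property at points which is open, local for flat base change and unchanged by étale precomposition. -/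
structure EtPtProp (P : ∀ ⦃X Y : Scheme.{u}⦄, (X ⟶ Y) → X → Prop) : Prop extends Fppf.PtProp P where
  etale_comp : ∀ {A' A U : Scheme.{u}} (e : A' ⟶ A) [Etale e] (f : A ⟶ U) [LocallyOfFiniteType f] (y : A'),
    P (e ≫ f) y ↔ P f (e y)

theorem etPtProp_flat : EtPtProp (fun _ _ f x => (f.stalkMap x).hom.Flat) where
  toPtProp := Fppf.ptProp_flat
  etale_comp e _ f _ y := Desc19b.flat_stalkMap_comp_iff e f y (Flat.stalkMap e y)

theorem quasiFiniteAt_etale_comp {A' A U : Scheme.{u}} (e : A' ⟶ A) [Etale e] (f : A ⟶ U)
    [LocallyOfFiniteType f] (y : A') : (e ≫ f).QuasiFiniteAt y ↔ f.QuasiFiniteAt (e y) := by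
  constructor
  · intro h
    rw [Scheme.Hom.quasiFiniteAt_iff_isOpen_singleton_asFiber] at h ⊢
    let s := U.fromSpecResidueField ((e ≫ f) y)
    let φ : pullback (e ≫ f) s ⟶ pullback f s := pullback.map _ _ _ _ e (𝟙 _) (𝟙 _) (by simp) (by simp)
    have hφ : IsPullback (pullback.fst (e ≫ f) s) φ e (pullback.fst f s) := by
      refine IsPullback.of_bot ?_ (pullback.lift_fst _ _ _).symm (IsPullback.of_hasPullback f s)
      rw [show φ ≫ pullback.snd f s = pullback.snd (e ≫ f) s from
        (pullback.lift_snd _ _ _).trans (Category.comp_id _)]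
      exact IsPullback.of_hasPullback (e ≫ f) s
    have : Etale φ := MorphismProperty.of_isPullback (P := @Etale) hφ ‹Etale e›
    have hy : φ ((e ≫ f).asFiber y) = f.asFiber (e y) := by
      apply (f.fiberι (f (e y))).isEmbedding.injective
      rw [Scheme.Hom.fiberι_asFiber]
      show (φ ≫ pullback.fst f s) ((e ≫ f).asFiber y) = e y
      rw [pullback.lift_fst, Scheme.Hom.comp_apply]
      exact congrArg e ((e ≫ f).fiberι_asFiber y)
    rw [← hy]
    exact Set.image_singleton ▸ φ.isOpenMap _ h
  · intro h
    simp only [Scheme.Hom.QuasiFiniteAt, Scheme.Hom.stalkMap_comp, CommRingCat.hom_comp]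
    have : LocallyQuasiFinite e := (AlgSpLib.etLocal_lqf.of_etale _ _ e ‹Etale e›).1
    exact RingHom.QuasiFinite.comp (e.quasiFiniteAt y) h

theorem etPtProp_quasiFinite : EtPtProp (fun _ _ f x => f.QuasiFiniteAt x) where
  toPtProp := Fppf.ptProp_quasiFinite
  etale_comp e _ f _ y := quasiFiniteAt_etale_comp e f y

end Groth.Agent.Stk19b.QDMSlice
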