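import Groth.Agent.Stk19b.QDMSlice.Locus
import Groth.Agent.GrpdLib.StabConj
import Groth.Agent.Stk19.AlgSt.UnramDiag

/-!
# Groupoid schemes: saturation along slices and quasi-finiteness over the product
-/

set_option autoImplicit false
set_option linter.style.haveILetI false
set_option backward.isDefEq.respectTransparency false
set_option backward.isDefEq.respectTransparency.types false

universe u

open CategoryTheory CategoryTheory.Limits AlgebraicGeometry

noncomputable section

namespace Groth.Agent.Stk19b.QDMSlice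

variable {S : Scheme.{u}} (G : Grpd.GroupoidScheme S)

/-- Composition of two arrows given on points. -/
def arrMul {T : Scheme.{u}} (α β : T ⟶ G.R) (h : α ≫ G.s = β ≫ G.t) : T ⟶ G.R :=
  pullback.lift α β h ≫ G.c

theorem arrMul_congr {T : Scheme.{u}} {α α' β β' : T ⟶ G.R} {h : α ≫ G.s = β ≫ G.t} (hα : α = α') (hβ : β = β') :
    arrMul G α β h = arrMul G α' β' (by rw [← hα, ← hβ, h]) := by
  subst hα hβ; rfl

theorem comp_arrMul {T T' : Scheme.{u}} (f : T' ⟶ T) (α β : T ⟶ G.R) (h : α ≫ G.s = β ≫ G.t) :
    f ≫ arrMul G α β h = arrMul G (f ≫ α) (f ≫ β) (by rw [Category.assoc, Category.assoc, h]) := by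
  rw [arrMul, arrMul, ← Category.assoc]
  congr 1
  apply pullback.hom_ext <;> simp

theorem arrMul_s {T : Scheme.{u}} (α β : T ⟶ G.R) (h : α ≫ G.s = β ≫ G.t) : arrMul G α β h ≫ G.s = β ≫ G.s :=
  G.comp_s α β h

theorem arrMul_t {T : Scheme.{u}} (α β : T ⟶ G.R) (h : α ≫ G.s = β ≫ G.t) : arrMul G α β h ≫ G.t = α ≫ G.t :=
  G.comp_t α β h

theorem arrMul_assoc {T : Scheme.{u}} (α β γ : T ⟶ G.R) (h₁ : α ≫ G.s = β ≫ G.t) (h₂ : β ≫ G.s = γ ≫ G.t) :
    arrMul G (arrMul G α β h₁) γ ((arrMul_s G α β h₁).trans h₂) =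
      arrMul G α (arrMul G β γ h₂) (h₁.trans (arrMul_t G β γ h₂).symm) :=
  G.assoc α β γ h₁ h₂

theorem inv_arrMul_cancel {T : Scheme.{u}} (a y : T ⟶ G.R) (h : a ≫ G.s = y ≫ G.t) :
    arrMul G (a ≫ G.i) (arrMul G a y h) (by rw [arrMul_t, Category.assoc, G.i_s]) = y := by
  rw [← arrMul_assoc G (a ≫ G.i) a y (by rw [Category.assoc, G.i_s]) h,
    arrMul_congr G (show arrMul G (a ≫ G.i) a _ = y ≫ G.t ≫ G.e by
      rw [arrMul, G.i_comp, ← Category.assoc, h, Category.assoc]) rfl]
  exact G.e_comp y

theorem arrMul_inv_cancel {T : Scheme.{u}} (a y : T ⟶ G.R) (h : a ≫ G.t = y ≫ G.t) :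
    arrMul G a (arrMul G (a ≫ G.i) y (by rw [Category.assoc, G.i_s, h]))
      (by rw [arrMul_t, Category.assoc, G.i_t]) = y := by
  rw [← arrMul_assoc G a (a ≫ G.i) y (by rw [Category.assoc, G.i_t]) (by rw [Category.assoc, G.i_s, h]),
    arrMul_congr G (show arrMul G a (a ≫ G.i) _ = y ≫ G.t ≫ G.e by
      rw [arrMul, G.comp_i, ← Category.assoc, h, Category.assoc]) rfl]
  exact G.e_comp y

theorem arrMul_inv_right_cancel {T : Scheme.{u}} (a y : T ⟶ G.R) (h : a ≫ G.s = y ≫ G.s) :
    arrMul G (arrMul G a (y ≫ G.i) (by rw [Category.assoc, G.i_t, h])) y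
      (by rw [arrMul_s, Category.assoc, G.i_s]) = a := by
  rw [arrMul_assoc G a (y ≫ G.i) y (by rw [Category.assoc, G.i_t, h]) (by rw [Category.assoc, G.i_s]),
    arrMul_congr G rfl (show arrMul G (y ≫ G.i) y _ = a ≫ G.s ≫ G.e by
      rw [arrMul, G.i_comp, ← Category.assoc, ← h, Category.assoc])]
  exact G.comp_e a

theorem arrMul_left_cancel {T : Scheme.{u}} (a y y' : T ⟶ G.R) (h : a ≫ G.s = y ≫ G.t) (h' : a ≫ G.s = y' ≫ G.t)
    (e : arrMul G a y h = arrMul G a y' h') : y = y' := by
  rw [← inv_arrMul_cancel G a y h, arrMul_congr G rfl e, inv_arrMul_cancel G a y' h']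

/-- Point properties of a slice composite of a groupoid scheme are saturated along the slice. -/
theorem saturated_grpd [Flat G.s] [LocallyOfFiniteType G.t] [LocallyOfFiniteType G.s] :
    Saturated G.s G.t := by
  intro π hπ Z g hfp x₁ x₂ hx h₁
  let a := pullback.fst (pullback.snd G.t g) (pullback.snd G.t g)
  let b := pullback.snd (pullback.snd G.t g) (pullback.snd G.t g)
  let rA := a ≫ pullback.fst G.t g
  let rB := b ≫ pullback.fst G.t g
  have hab : rA ≫ G.t = rB ≫ G.t := by
    simp only [rA, rB, Category.assoc, pullback.condition]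
    rw [← Category.assoc a, ← Category.assoc b, pullback.condition]
  let δ := arrMul G (rA ≫ G.i) rB (by rw [Category.assoc, G.i_s, hab])
  have δt : δ ≫ G.t = rA ≫ G.s := by rw [arrMul_t, Category.assoc, G.i_t]
  have δs : δ ≫ G.s = rB ≫ G.s := arrMul_s _ _ _ _
  have rAB : arrMul G rA δ δt.symm = rB := arrMul_inv_cancel G rA rB hab
  have sq₁ : IsPullback a δ (τ G.s G.t g) G.t := by
    refine IsPullback.of_isLimit' ⟨by rw [δt]; simp only [rA, τ, Category.assoc]⟩
      (PullbackCone.IsLimit.mk _ (fun c => pullback.lift c.fst (pullback.lift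
        (arrMul G (c.fst ≫ pullback.fst G.t g) c.snd (by rw [Category.assoc]; exact c.condition))
        (c.fst ≫ pullback.snd G.t g) (by rw [arrMul_t, Category.assoc, pullback.condition, Category.assoc]))
        (pullback.lift_snd _ _ _).symm) (fun c => pullback.lift_fst _ _ _) (fun c => ?_) fun c m hm₁ hm₂ => ?_)
    · rw [comp_arrMul]
      refine (arrMul_congr G (α' := (c.fst ≫ pullback.fst G.t g) ≫ G.i)
        (β' := arrMul G (c.fst ≫ pullback.fst G.t g) c.snd (by rw [Category.assoc]; exact c.condition)) ?_ ?_).trans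
        (inv_arrMul_cancel G _ _ _)
      · simp only [rA, a, ← Category.assoc, pullback.lift_fst]
      · simp only [rB, b, ← Category.assoc, pullback.lift_snd, pullback.lift_fst]
    · apply pullback.hom_ext
      · rw [pullback.lift_fst]; exact hm₁
      · rw [pullback.lift_snd]
        apply pullback.hom_ext
        · rw [pullback.lift_fst, Category.assoc, show pullback.snd _ _ ≫ pullback.fst G.t g = rB from rfl, ← rAB,
            comp_arrMul]
          exact arrMul_congr G (by simp only [rA, ← Category.assoc, hm₁]) hm₂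
        · rw [pullback.lift_snd, Category.assoc, ← pullback.condition, ← Category.assoc, hm₁]
  have sq₂ : IsPullback b δ (τ G.s G.t g) G.s := by
    refine IsPullback.of_isLimit' ⟨by rw [δs]; simp only [rB, τ, Category.assoc]⟩
      (PullbackCone.IsLimit.mk _ (fun c => pullback.lift (pullback.lift
        (arrMul G (c.fst ≫ pullback.fst G.t g) (c.snd ≫ G.i)
          (by rw [Category.assoc, Category.assoc, G.i_t]; exact c.condition))
        (c.fst ≫ pullback.snd G.t g) (by rw [arrMul_t, Category.assoc, pullback.condition, Category.assoc]))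
        c.fst (pullback.lift_snd _ _ _)) (fun c => pullback.lift_snd _ _ _) (fun c => ?_) fun c m hm₁ hm₂ => ?_)
    · have hc : (c.fst ≫ pullback.fst G.t g) ≫ G.s = c.snd ≫ G.s := by rw [Category.assoc]; exact c.condition
      refine arrMul_left_cancel G (arrMul G (c.fst ≫ pullback.fst G.t g) (c.snd ≫ G.i)
        (hc.trans (by rw [Category.assoc, G.i_t]))) _ _ ?_ ?_ ?_
      · rw [arrMul_s, Category.assoc, Category.assoc, δt, G.i_s]
        simp only [rA, a, ← Category.assoc, pullback.lift_fst, arrMul_s, G.i_s]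
        rw [Category.assoc, G.i_s]
      · rw [arrMul_s, Category.assoc, G.i_s]
      rw [arrMul_inv_right_cancel G _ _ hc]
      have key : ∀ (A : c.pt ⟶ G.R) (n : c.pt ⟶ _) (h : A ≫ G.s = (n ≫ δ) ≫ G.t),
          n ≫ rA = A → n ≫ rB = c.fst ≫ pullback.fst G.t g → arrMul G A (n ≫ δ) h = c.fst ≫ pullback.fst G.t g := by
        intro A n h hA hB
        subst hA
        exact ((comp_arrMul G n rA δ δt.symm).symm.trans (congrArg (n ≫ ·) rAB)).trans hB
      refine key _ _ _ ?_ ?_
      · simp only [rA, a, ← Category.assoc, pullback.lift_fst]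
      · simp only [rB, b, ← Category.assoc, pullback.lift_snd]
    · apply pullback.hom_ext
      · rw [pullback.lift_fst]
        apply pullback.hom_ext
        · rw [pullback.lift_fst]
          have e : arrMul G (m ≫ rA) (m ≫ δ) ((Category.assoc _ _ _).trans ((congrArg (m ≫ ·) δt.symm).trans (Category.assoc _ _ _).symm)) = c.fst ≫ pullback.fst G.t g := by
            refine (comp_arrMul G m rA δ δt.symm).symm.trans ?_
            rw [rAB]
            simp only [rB, ← Category.assoc, hm₁]
          have hs' : (m ≫ rA) ≫ G.s = (m ≫ δ) ≫ G.t := ((Category.assoc _ _ _).trans ((congrArg (m ≫ ·) δt.symm).trans (Category.assoc _ _ _).symm))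
          have key : arrMul G (arrMul G (m ≫ rA) (m ≫ δ) hs') ((m ≫ δ) ≫ G.i)
              (by rw [arrMul_s, Category.assoc _ G.i, G.i_t]) = m ≫ rA := by
            rw [arrMul_assoc G _ _ _ hs' (by rw [Category.assoc _ G.i, G.i_t]),
              arrMul_congr G rfl (show arrMul G (m ≫ δ) ((m ≫ δ) ≫ G.i) _ = (m ≫ rA) ≫ G.s ≫ G.e by
                rw [arrMul, G.comp_i, ← Category.assoc, ← hs', Category.assoc])]
            exact G.comp_e _
          rw [Category.assoc, show pullback.fst (pullback.snd G.t g) (pullback.snd G.t g) ≫ pullback.fst G.t g = rA from rfl,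
            ← key]
          exact arrMul_congr G e (by rw [hm₂])
        · rw [pullback.lift_snd, Category.assoc, pullback.condition, ← Category.assoc, hm₁]
      · rw [pullback.lift_snd]; exact hm₁
  obtain ⟨z, hz₁, hz₂⟩ := Boot.exists_preimage (IsPullback.of_hasPullback (pullback.snd G.t g) (pullback.snd G.t g))
    x₁ x₂ hx
  have h₂ := hπ.baseChange sq₁ hfp z (by rw [show a z = x₁ from hz₁]; exact h₁)
  have h₃ := hπ.descend sq₂ hfp inferInstance z h₂
  rwa [show b z = x₂ from hz₂] at h₃

/-- Quasi-finiteness of the stabilizer gives quasi-finiteness over the product. -/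
theorem lqf_j [LocallyOfFiniteType G.s] [LocallyQuasiFinite G.stabilizerToU] : LocallyQuasiFinite G.j := by
  have hjs : G.j ≫ pullback.snd G.pU G.pU = G.s := pullback.lift_snd _ _ _
  have hjt : G.j ≫ pullback.fst G.pU G.pU = G.t := pullback.lift_fst _ _ _
  have : LocallyOfFiniteType G.j := by
    have : LocallyOfFiniteType (G.j ≫ pullback.snd G.pU G.pU) := by rw [hjs]; infer_instance
    exact locallyOfFiniteType_of_comp G.j (pullback.snd G.pU G.pU)
  let α := pullback.fst G.j G.j
  let β := pullback.snd G.j G.j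
  have et : α ≫ G.t = β ≫ G.t := by rw [← hjt, ← Category.assoc, pullback.condition, Category.assoc]
  have es : α ≫ G.s = β ≫ G.s := by rw [← hjs, ← Category.assoc, pullback.condition, Category.assoc]
  let γ := arrMul G (α ≫ G.i) β (by rw [Category.assoc, G.i_s, et])
  have γt : γ ≫ G.t = α ≫ G.s := by rw [arrMul_t, Category.assoc, G.i_t]
  have γs : γ ≫ G.s = α ≫ G.s := by rw [arrMul_s, es]
  let l := GrpdLib.stabMk G γ (γt.trans γs.symm)
  have sq : IsPullback α l G.s G.stabilizerToU := by
    refine IsPullback.of_isLimit' ⟨by rw [GrpdLib.stabMk_toU, γt]⟩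
      (PullbackCone.IsLimit.mk _ (fun c => pullback.lift c.fst
        (arrMul G c.fst (c.snd ≫ GrpdLib.stabArrow G)
          (by rw [Category.assoc, GrpdLib.stabArrow_t]; exact c.condition)) ?_)
        (fun c => pullback.lift_fst _ _ _) (fun c => ?_) fun c m hm₁ hm₂ => ?_)
    · apply pullback.hom_ext
      · rw [Category.assoc, Category.assoc, hjt, arrMul_t]
      · rw [Category.assoc, Category.assoc, hjs, arrMul_s, Category.assoc, GrpdLib.stabArrow_s]
        exact c.condition
    · refine GrpdLib.stab_ext G _ _ ?_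
      rw [Category.assoc, GrpdLib.stabMk_arrow, comp_arrMul]
      refine (arrMul_congr G (α' := c.fst ≫ G.i) (β' := arrMul G c.fst (c.snd ≫ GrpdLib.stabArrow G)
        (by rw [Category.assoc, GrpdLib.stabArrow_t]; exact c.condition)) ?_ ?_).trans (inv_arrMul_cancel G _ _ _)
      · simp only [α, ← Category.assoc, pullback.lift_fst]
      · simp only [β, pullback.lift_snd]
    · apply pullback.hom_ext
      · rw [pullback.lift_fst]; exact hm₁
      · rw [pullback.lift_snd]
        show m ≫ β = _
        rw [← arrMul_inv_cancel G α β et, comp_arrMul]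
        refine arrMul_congr G hm₁ ?_
        rw [← hm₂]
        exact (congrArg (m ≫ ·) (GrpdLib.stabMk_arrow G γ (γt.trans γs.symm)).symm).trans (Category.assoc _ _ _).symm
  have : LocallyQuasiFinite (pullback.fst G.j G.j) :=
    MorphismProperty.of_isPullback (P := @LocallyQuasiFinite) sq.flip inferInstance
  exact Stk19.lqf_of_self_pullback G.j

end Groth.Agent.Stk19b.QDMSlice
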