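import Groth.Agent.Stk19b.QDMSlice.Saturate
import Groth.Agent.Stk19b.QDMSlice.Alg
import Mathlib.AlgebraicGeometry.Morphisms.Immersion

/-!
# Slices of a groupoid of schemes: composites, loci and quasi-finiteness over the product
-/

set_option autoImplicit false
set_option linter.style.haveILetI false
set_option backward.isDefEq.respectTransparency false
set_option backward.isDefEq.respectTransparency.types false

universe u

open CategoryTheory CategoryTheory.Limits AlgebraicGeometry TensorProduct

noncomputable section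

namespace Groth.Agent.Stk19b.QDMSlice

variable {U W : Scheme.{u}} (p q : W ⟶ U)

/-- The composite attached to a slice. -/
def τ {Z : Scheme.{u}} (g : Z ⟶ U) : pullback q g ⟶ U := pullback.fst q g ≫ p

/-- Saturation of point properties along every slice. -/
def Saturated : Prop :=
  ∀ {π : ∀ ⦃X Y : Scheme.{u}⦄, (X ⟶ Y) → X → Prop}, EtPtProp π → ∀ {Z : Scheme.{u}} (g : Z ⟶ U),
    LocallyOfFinitePresentation (τ p q g) → ∀ x₁ x₂ : ↥(pullback q g),
      pullback.snd q g x₁ = pullback.snd q g x₂ → π (τ p q g) x₁ → π (τ p q g) x₂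

theorem exists_isPullback_comp {Z Z' : Scheme.{u}} (g : Z ⟶ U) (j : Z' ⟶ Z) :
    ∃ k : pullback q (j ≫ g) ⟶ pullback q g,
      IsPullback k (pullback.snd q (j ≫ g)) (pullback.snd q g) j ∧ k ≫ τ p q g = τ p q (j ≫ g) := by
  let k : pullback q (j ≫ g) ⟶ pullback q g :=
    pullback.map _ _ _ _ (𝟙 _) j (𝟙 _) (by simp) (by simp)
  refine ⟨k, IsPullback.of_right ?_ (pullback.lift_snd _ _ _)
    (IsPullback.of_hasPullback q g), ?_⟩
  · rw [show k ≫ pullback.fst q g = pullback.fst q (j ≫ g) from
      (pullback.lift_fst _ _ _).trans (Category.comp_id _)]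
    exact IsPullback.of_hasPullback q (j ≫ g)
  · show k ≫ pullback.fst q g ≫ p = pullback.fst q (j ≫ g) ≫ p
    rw [← Category.assoc, show k ≫ pullback.fst q g = pullback.fst q (j ≫ g) from
      (pullback.lift_fst _ _ _).trans (Category.comp_id _)]

theorem lfp_τ_comp {Z Z' : Scheme.{u}} (g : Z ⟶ U) (j : Z' ⟶ Z) [LocallyOfFinitePresentation j]
    [LocallyOfFinitePresentation (τ p q g)] : LocallyOfFinitePresentation (τ p q (j ≫ g)) := by
  obtain ⟨k, hk, e⟩ := exists_isPullback_comp p q g j
  have : LocallyOfFinitePresentation k :=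
    MorphismProperty.of_isPullback (P := @LocallyOfFinitePresentation) hk.flip ‹_›
  rw [← e]
  infer_instance

variable [Flat q] [LocallyOfFinitePresentation q]

/-- The points of a slice over which a property holds form an open. -/
def locus (π : ∀ ⦃X Y : Scheme.{u}⦄, (X ⟶ Y) → X → Prop) (hπ : EtPtProp π) {Z : Scheme.{u}} (g : Z ⟶ U)
    [LocallyOfFinitePresentation (τ p q g)] : Z.Opens :=
  ⟨pullback.snd q g '' {x | π (τ p q g) x}, (pullback.snd q g).isOpenMap _ (hπ.isOpen (τ p q g))⟩

theorem prop_of_le_locus (hsat : Saturated p q) {π : ∀ ⦃X Y : Scheme.{u}⦄, (X ⟶ Y) → X → Prop}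
    (hπ : EtPtProp π) {Z Z' : Scheme.{u}} (g : Z ⟶ U) [LocallyOfFinitePresentation (τ p q g)]
    (j : Z' ⟶ Z) [IsOpenImmersion j] (hj : ∀ z, j z ∈ locus p q π hπ g) (x' : ↥(pullback q (j ≫ g))) :
    π (τ p q (j ≫ g)) x' := by
  obtain ⟨k, hk, e⟩ := exists_isPullback_comp p q g j
  have : IsOpenImmersion k := MorphismProperty.of_isPullback (P := @IsOpenImmersion) hk.flip ‹_›
  obtain ⟨y, hy, hyx⟩ := hj (pullback.snd q (j ≫ g) x')
  rw [← e, hπ.etale_comp]
  exact hsat hπ g inferInstance y (k x')
    (by rw [hyx, ← Scheme.Hom.comp_apply, ← Scheme.Hom.comp_apply, hk.w]) hy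

theorem exists_τ_point {Z Z' : Scheme.{u}} (g : Z ⟶ U) (j : Z' ⟶ Z) (x : ↥(pullback q g)) (z' : Z')
    (h : pullback.snd q g x = j z') : ∃ x' : ↥(pullback q (j ≫ g)), τ p q (j ≫ g) x' = τ p q g x := by
  obtain ⟨k, hk, e⟩ := exists_isPullback_comp p q g j
  obtain ⟨x', hx, -⟩ := Boot.exists_preimage hk x z' h
  exact ⟨x', by rw [← e, Scheme.Hom.comp_apply, hx]⟩

omit [Flat q] [LocallyOfFinitePresentation q] in
/-- An affine piece of a slice is quasi-finite over the tensor product of the two factors. -/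
theorem exists_quasiFinite_tensor {S₀ : Scheme.{u}} (s : U ⟶ S₀) (hw : p ≫ s = q ≫ s)
    (hqf : LocallyQuasiFinite (pullback.lift p q hw)) {Z : Scheme.{u}} (g : Z ⟶ U)
    {A B C : Type u} [CommRing A] [CommRing B] [CommRing C] (α : A →+* B) (χ : C →+* B)
    (a : Spec (CommRingCat.of A) ⟶ U) (c : Spec (CommRingCat.of C) ⟶ Z)
    (ι : Spec (CommRingCat.of B) ⟶ pullback q g) [LocallyQuasiFinite ι]
    (ha : ι ≫ τ p q g = Spec.map (CommRingCat.ofHom α) ≫ a)
    (hc : ι ≫ pullback.snd q g = Spec.map (CommRingCat.ofHom χ) ≫ c) :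
    ∃ (R : Type u) (_ : CommRing R) (ρ : R →+* B), ρ.QuasiFinite ∧
      ∀ r, ρ r ∈ Subring.closure (Set.range α ∪ Set.range χ) := by
  let sA := a ≫ s
  let sC := c ≫ g ≫ s
  -- the slice over the product
  let l : pullback q g ⟶ pullback s (g ≫ s) := pullback.lift (τ p q g) (pullback.snd q g)
    (by simp only [τ, Category.assoc, hw, pullback.condition_assoc])
  let M : pullback s (g ≫ s) ⟶ pullback s s := pullback.map _ _ _ _ (𝟙 U) g (𝟙 S₀) (by simp) (by simp)
  have sqM : IsPullback M (pullback.snd s (g ≫ s)) (pullback.snd s s) g := by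
    refine IsPullback.of_right ?_ (pullback.lift_snd _ _ _)
      (IsPullback.of_hasPullback s s)
    rw [show M ≫ pullback.fst s s = pullback.fst s (g ≫ s) from
      (pullback.lift_fst _ _ _).trans (Category.comp_id _)]
    exact IsPullback.of_hasPullback s (g ≫ s)
  have sql : IsPullback (pullback.fst q g) l (pullback.lift p q hw) M := by
    refine IsPullback.of_bot ?_ ?_ sqM
    · rw [pullback.lift_snd, pullback.lift_snd]
      exact IsPullback.of_hasPullback q g
    · apply pullback.hom_ext
      · simp [l, M, τ]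
      · simp [l, M, pullback.condition]
  have : LocallyQuasiFinite l := MorphismProperty.of_isPullback (P := @LocallyQuasiFinite) sql hqf
  -- the affine piece over the affine product
  let α' := Spec.map (CommRingCat.ofHom α)
  let χ' := Spec.map (CommRingCat.ofHom χ)
  have hac : α' ≫ sA = χ' ≫ sC := by
    show α' ≫ a ≫ s = χ' ≫ c ≫ g ≫ s
    rw [← Category.assoc, ← ha, ← Category.assoc χ', ← hc]
    simp only [τ, Category.assoc, hw, pullback.condition_assoc]
  let L := pullback.lift α' χ' hac
  let M' : pullback sA sC ⟶ pullback s (g ≫ s) :=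
    pullback.map _ _ _ _ a c (𝟙 S₀) (by simp [sA]) (by simp [sC])
  have eL : L ≫ M' = ι ≫ l := by
    apply pullback.hom_ext
    · simp [L, M', l, α', ha]
    · simp [L, M', l, χ', hc]
  have : LocallyQuasiFinite (L ≫ M') := by rw [eL]; infer_instance
  have : LocallyQuasiFinite L := LocallyQuasiFinite.of_comp L M'
  -- the absolute product
  let Z₀ := ULift.{u} ℤ
  letI : Algebra Z₀ A := Algebra.ofModule (fun r x y => smul_mul_assoc r x y) (fun r x y => mul_smul_comm r x y)
  letI : Algebra Z₀ C := Algebra.ofModule (fun r x y => smul_mul_assoc r x y) (fun r x y => mul_smul_comm r x y)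
  let t : S₀ ⟶ Spec (CommRingCat.of Z₀) := specULiftZIsTerminal.from S₀
  let D : pullback sA sC ⟶ pullback (Spec.map (CommRingCat.ofHom (algebraMap Z₀ A)))
      (Spec.map (CommRingCat.ofHom (algebraMap Z₀ C))) :=
    pullback.mapDesc sA sC t ≫ (pullback.congrHom (specULiftZIsTerminal.hom_ext _ _)
      (specULiftZIsTerminal.hom_ext _ _)).hom
  have : LocallyQuasiFinite D := inferInstanceAs (LocallyQuasiFinite (_ ≫ _))
  let φ := L ≫ D ≫ (pullbackSpecIso Z₀ A C).hom
  let ρ := Spec.preimage φ
  have : LocallyQuasiFinite (Spec.map ρ) := by rw [Spec.map_preimage]; infer_instance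
  refine ⟨_, inferInstance, ρ.hom, (HasRingHomProperty.Spec_iff (P := @LocallyQuasiFinite)).1 this, ?_⟩
  have h₁ : ρ.hom.comp Algebra.TensorProduct.includeLeftRingHom = α := by
    suffices h : CommRingCat.ofHom (Algebra.TensorProduct.includeLeftRingHom (R := Z₀) (A := A) (B := C)) ≫ ρ =
      CommRingCat.ofHom α from congrArg CommRingCat.Hom.hom h
    apply Spec.map_injective
    rw [Spec.map_comp, Spec.map_preimage]
    simp [φ, L, D, α']
  have h₂ : ρ.hom.comp (Algebra.TensorProduct.includeRight (R := Z₀) (A := A) (B := C)).toRingHom = χ := by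
    suffices h : CommRingCat.ofHom (Algebra.TensorProduct.includeRight (R := Z₀) (A := A) (B := C)).toRingHom ≫ ρ =
      CommRingCat.ofHom χ from congrArg CommRingCat.Hom.hom h
    apply Spec.map_injective
    rw [Spec.map_comp, Spec.map_preimage]
    simp [φ, L, D, χ']
  intro r
  induction r using TensorProduct.induction_on with
  | zero => rw [map_zero]; exact zero_mem _
  | tmul x y =>
    have key : ρ.hom (x ⊗ₜ y) = α x * χ y := by
      rw [← h₁, ← h₂]
      show _ = ρ.hom (Algebra.TensorProduct.includeLeftRingHom x) * ρ.hom (Algebra.TensorProduct.includeRight y)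
      rw [← map_mul]
      congr 1
      simp
    rw [key]
    exact mul_mem (Subring.subset_closure (Or.inl ⟨x, rfl⟩)) (Subring.subset_closure (Or.inr ⟨y, rfl⟩))
  | add x y hx hy => rw [map_add]; exact add_mem hx hy

end Groth.Agent.Stk19b.QDMSlice
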