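import Groth.Agent.Stk19b.DMSlice.Groupoid
import Groth.Agent.Stk19b.QDMSlice.EtPt

/-!
# Saturation of point properties of a slice of a chart of a stack
-/

set_option autoImplicit false
set_option linter.style.haveILetI false
set_option backward.isDefEq.respectTransparency false
set_option backward.isDefEq.respectTransparency.types false

universe u

open CategoryTheory CategoryTheory.Limits AlgebraicGeometry Opposite FibCat
open Groth.Agent.Stk19

namespace Groth.Agent.Stk19b.QDMSlice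

open DMSlice
open Boot (exists_preimage)

variable {S : Scheme.{u}} {𝒳 : AlgSt.Cat S} {U W V : Over S} {u : overCat U ⥤ᵇ 𝒳} {F : AlgSp.Sp S}
  {e : AlgSt.ofSp F ⥤ᵇ fp u u}

/-- Two points of the slice over the same point of the multisection are joined by a common chart. -/
theorem exists_common_chart (h : IsFibGrpd 𝒳.p) (he : IsEquivOver e) (ω : (AlgSp.yon S).obj W ⟶ F)
    (hωE : AlgSp.RepWith @Etale ω) (hωS : AlgSp.RepWith @Surjective ω) (p q : W ⟶ U)
    (hp : (AlgSp.yon S).map p = ω ≫ P e) (hq : (AlgSp.yon S).map q = ω ≫ Q e) (jo : V ⟶ U)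
    (x₁ x₂ : ↥(pullback q jo).left) (eqx : (pullback.snd q jo).left x₁ = (pullback.snd q jo).left x₂) :
    ∃ (Y : Over S) (e₁ : Y ⟶ pullback (pullback.fst q jo ≫ p) p) (e₂ : Y ⟶ pullback (pullback.fst q jo ≫ p) q)
      (z : Y.left), Etale e₁.left ∧ Etale e₂.left ∧
      e₁ ≫ pullback.snd (pullback.fst q jo ≫ p) p = e₂ ≫ pullback.snd (pullback.fst q jo ≫ p) q ∧
      (pullback.fst (pullback.fst q jo ≫ p) p).left (e₁.left z) = x₁ ∧
      (pullback.fst (pullback.fst q jo ≫ p) q).left (e₂.left z) = x₂ := by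
  let k : pullback q jo ⟶ W := pullback.fst q jo
  let qV : pullback q jo ⟶ V := pullback.snd q jo
  have sqV := IsPullback.of_hasPullback q jo
  have sqS := IsPullback.of_hasPullback (Q e) ((AlgSp.yon S).map jo)
  let kF := pullback.fst (Q e) ((AlgSp.yon S).map jo)
  let qF := pullback.snd (Q e) ((AlgSp.yon S).map jo)
  have hcond : ((AlgSp.yon S).map k ≫ ω) ≫ Q e = (AlgSp.yon S).map qV ≫ (AlgSp.yon S).map jo := by
    rw [Category.assoc, ← hq, ← Functor.map_comp, ← Functor.map_comp, sqV.w]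
  let w := pullback.lift ((AlgSp.yon S).map k ≫ ω) ((AlgSp.yon S).map qV) hcond
  have wk : w ≫ kF = (AlgSp.yon S).map k ≫ ω := pullback.lift_fst _ _ _
  have wq : w ≫ qF = (AlgSp.yon S).map qV := pullback.lift_snd _ _ _
  have sqw : IsPullback ((AlgSp.yon S).map k) w ω kF := by
    refine IsPullback.of_bot ?_ wk.symm sqS
    rw [wq, ← hq]
    exact sqV.map (AlgSp.yon S)
  have hwE : AlgSp.RepWith @Etale w := AlgSpLib.RepWith.baseChange sqw hωE
  obtain ⟨θ, s₁, s₂⟩ := exists_translation h he sqS (IsPullback.of_hasPullback qF qF)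
  let r₁ := pullback.fst qF qF
  let r₂ := pullback.snd qF qF
  let A₁ := pullback (k ≫ p) p
  let A₂ := pullback (k ≫ p) q
  have c₁ : ((AlgSp.yon S).map (pullback.fst (k ≫ p) p) ≫ w) ≫ kF ≫ P e =
      ((AlgSp.yon S).map (pullback.snd (k ≫ p) p) ≫ ω) ≫ P e := by
    simp only [Category.assoc, reassoc_of% wk, ← hp, ← Functor.map_comp, pullback.condition]
  have c₂ : ((AlgSp.yon S).map (pullback.fst (k ≫ p) q) ≫ w) ≫ kF ≫ P e =
      ((AlgSp.yon S).map (pullback.snd (k ≫ p) q) ≫ ω) ≫ Q e := by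
    simp only [Category.assoc, reassoc_of% wk, ← hp, ← hq, ← Functor.map_comp, pullback.condition]
  let a₁ := s₁.lift _ _ c₁
  let a₂ := s₂.lift _ _ c₂
  let σ := a₁ ≫ r₂
  have sqY := hwE.rep.isPullback σ
  let e₁ : hwE.rep.pullback σ ⟶ A₁ := hwE.rep.snd σ
  obtain ⟨f₂, hf₂⟩ := (AlgSp.yon S).map_surjective (hwE.rep.fst σ)
  rw [← hf₂] at sqY
  let f₁ := e₁ ≫ pullback.fst (k ≫ p) p
  have hE₁ : Etale e₁.left := hwE.property_snd σ
  have hca : (AlgSp.yon S).map f₂ ≫ w ≫ kF ≫ P e =
      (AlgSp.yon S).map (e₁ ≫ pullback.snd (k ≫ p) p) ≫ ω ≫ Q e := by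
    rw [reassoc_of% sqY.w]
    simp only [σ, Category.assoc, e₁]
    rw [show r₂ ≫ kF ≫ P e = θ ≫ Q e from s₂.w, reassoc_of% s₁.lift_snd]
    simp only [Functor.map_comp, Category.assoc]
  let e₂ : hwE.rep.pullback σ ⟶ A₂ := pullback.lift f₂ (e₁ ≫ pullback.snd (k ≫ p) p) (by
    apply (AlgSp.yon S).map_injective
    rw [← Category.assoc, Functor.map_comp, Functor.map_comp, Functor.map_comp _ (e₁ ≫ _) q, hp, hq,
      Category.assoc, ← reassoc_of% wk]
    exact hca)
  have ea₁ : (AlgSp.yon S).map e₁ ≫ a₁ ≫ r₁ = (AlgSp.yon S).map f₁ ≫ w := by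
    simp only [a₁, r₁, s₁.lift_fst, f₁, Functor.map_comp, Category.assoc]
  have ea : (AlgSp.yon S).map e₂ ≫ a₂ = (AlgSp.yon S).map e₁ ≫ a₁ := by
    refine s₂.hom_ext ?_ ?_
    · rw [Category.assoc, Category.assoc, s₂.lift_fst, ← Category.assoc, ← Functor.map_comp,
        pullback.lift_fst, sqY.w]
    · rw [Category.assoc, Category.assoc, s₂.lift_snd, s₁.lift_snd, ← Category.assoc, ← Functor.map_comp,
        pullback.lift_snd, Functor.map_comp, Category.assoc]
  have sqY₂ : IsPullback ((AlgSp.yon S).map f₁) ((AlgSp.yon S).map e₂) w (a₂ ≫ r₁) := by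
    refine AlgSpLib.isPullback_of_yon (by rw [← Category.assoc _ a₂, ea, Category.assoc, ea₁])
      fun T x z hxz => ?_
    obtain ⟨x, rfl⟩ := (AlgSp.yon S).map_surjective x
    obtain ⟨z, rfl⟩ := (AlgSp.yon S).map_surjective z
    have hz : x ≫ k ≫ p = (z ≫ pullback.snd (k ≫ p) q) ≫ p := by
      apply (AlgSp.yon S).map_injective
      simp only [Functor.map_comp, hp, Category.assoc, ← reassoc_of% wk, reassoc_of% hxz]
      rw [show r₁ ≫ kF ≫ P e = θ ≫ P e from s₁.w, reassoc_of% s₂.lift_snd]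
      simp only [Category.assoc]
    let l₁ : T ⟶ A₁ := pullback.lift x (z ≫ pullback.snd (k ≫ p) q) hz
    have hl₁ : (AlgSp.yon S).map l₁ ≫ a₁ = (AlgSp.yon S).map z ≫ a₂ := by
      refine s₁.hom_ext ?_ ?_
      · rw [Category.assoc, Category.assoc, s₁.lift_fst, ← Category.assoc, ← Functor.map_comp, pullback.lift_fst]
        exact hxz
      · rw [Category.assoc, Category.assoc, s₁.lift_snd, s₂.lift_snd, ← Category.assoc, ← Functor.map_comp,
          pullback.lift_snd, Functor.map_comp, Category.assoc]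
    let l := sqY.lift ((AlgSp.yon S).map (z ≫ pullback.fst (k ≫ p) q)) ((AlgSp.yon S).map l₁) (by
      simp only [σ, reassoc_of% hl₁, r₂, a₂, s₂.lift_fst, Functor.map_comp, Category.assoc])
    obtain ⟨l', hl'⟩ := (AlgSp.yon S).map_surjective l
    have h1 : l' ≫ e₁ = l₁ := (AlgSp.yon S).map_injective (by rw [Functor.map_comp, hl', sqY.lift_snd])
    have h2 : l' ≫ f₂ = z ≫ pullback.fst (k ≫ p) q := (AlgSp.yon S).map_injective (by
      rw [Functor.map_comp, hl', sqY.lift_fst])
    refine ⟨(AlgSp.yon S).map l', ⟨?_, ?_⟩, fun n hn => ?_⟩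
    · rw [← Functor.map_comp, show l' ≫ f₁ = x by rw [reassoc_of% h1, pullback.lift_fst]]
    · rw [← Functor.map_comp, show l' ≫ e₂ = z from pullback.hom_ext
        (by rw [Category.assoc, pullback.lift_fst, h2])
        (by rw [Category.assoc, pullback.lift_snd, reassoc_of% h1, pullback.lift_snd])]
    · obtain ⟨n, rfl⟩ := (AlgSp.yon S).map_surjective n
      obtain ⟨hn₁, hn₂⟩ := hn
      have k₁ : n ≫ f₁ = x := (AlgSp.yon S).map_injective (by rw [Functor.map_comp, hn₁])
      have k₂ : n ≫ e₂ = z := (AlgSp.yon S).map_injective (by rw [Functor.map_comp, hn₂])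
      rw [hl']
      refine sqY.hom_ext ?_ ?_
      · rw [sqY.lift_fst, ← Functor.map_comp, ← k₂, Category.assoc, pullback.lift_fst]
      · rw [sqY.lift_snd, ← Functor.map_comp]
        congr 1
        refine pullback.hom_ext ?_ ?_
        · rw [pullback.lift_fst, ← k₁, Category.assoc]
        · rw [pullback.lift_snd, ← k₂, Category.assoc, Category.assoc, pullback.lift_snd]
  have hE₂ : Etale e₂.left := hwE.property _ _ _ sqY₂
  -- every pair of points with the same second end lifts
  obtain ⟨z, hz₁, hz₂⟩ : ∃ z, f₁.left z = x₁ ∧ f₂.left z = x₂ := by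
    let P₀ := pullback qV qV
    have sqP : IsPullback (pullback.fst qV qV).left (pullback.snd qV qV).left qV.left qV.left :=
      (IsPullback.of_hasPullback qV qV).map (Over.forget S)
    obtain ⟨z₀, hz₁, hz₂⟩ := exists_preimage sqP x₁ x₂ eqx
    let b : (AlgSp.yon S).obj P₀ ⟶ pullback qF qF := pullback.lift
      ((AlgSp.yon S).map (pullback.fst qV qV) ≫ w) ((AlgSp.yon S).map (pullback.snd qV qV) ≫ w) (by
      simp only [Category.assoc, wq, ← Functor.map_comp, pullback.condition])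
    have sq₀ := hωE.rep.isPullback (b ≫ θ)
    obtain ⟨n, hn⟩ := (AlgSp.yon S).map_surjective (hωE.rep.fst (b ≫ θ))
    rw [← hn] at sq₀
    let d := hωE.rep.snd (b ≫ θ)
    have hdS : Surjective d.left := hωS.property _ _ _ sq₀
    obtain ⟨z₁, rfl⟩ := hdS.surj z₀
    have hn' : (d ≫ pullback.fst qV qV) ≫ k ≫ p = n ≫ p := by
      apply (AlgSp.yon S).map_injective
      simp only [Functor.map_comp, hp, Category.assoc]
      rw [reassoc_of% sq₀.w, ← reassoc_of% wk, ← show r₁ ≫ kF ≫ P e = θ ≫ P e from s₁.w]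
      simp only [b, r₁, d, pullback.lift_fst_assoc, Category.assoc]
    let l₁ : hωE.rep.pullback (b ≫ θ) ⟶ A₁ := pullback.lift (d ≫ pullback.fst qV qV) n hn'
    have hl₁ : (AlgSp.yon S).map l₁ ≫ a₁ = (AlgSp.yon S).map d ≫ b := by
      refine s₁.hom_ext ?_ ?_
      · rw [Category.assoc, Category.assoc, s₁.lift_fst, ← Category.assoc, ← Functor.map_comp, pullback.lift_fst,
          pullback.lift_fst, Functor.map_comp, Category.assoc]
      · rw [Category.assoc, Category.assoc, s₁.lift_snd, ← Category.assoc, ← Functor.map_comp, pullback.lift_snd,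
          sq₀.w]
    obtain ⟨l, hl⟩ := (AlgSp.yon S).map_surjective (sqY.lift ((AlgSp.yon S).map (d ≫ pullback.snd qV qV))
      ((AlgSp.yon S).map l₁) (by
        simp only [σ, reassoc_of% hl₁, r₂, b, pullback.lift_snd, Functor.map_comp, Category.assoc]))
    have h1 : l ≫ f₁ = d ≫ pullback.fst qV qV := by
      have : l ≫ e₁ = l₁ := (AlgSp.yon S).map_injective (by rw [Functor.map_comp, hl, sqY.lift_snd])
      rw [reassoc_of% this, pullback.lift_fst]
    have h2 : l ≫ f₂ = d ≫ pullback.snd qV qV := (AlgSp.yon S).map_injective (by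
      rw [Functor.map_comp, hl, sqY.lift_fst])
    exact ⟨l.left z₁, (congrArg (fun f : hωE.rep.pullback (b ≫ θ) ⟶ pullback q jo => f.left z₁) h1).trans hz₁,
      (congrArg (fun f : hωE.rep.pullback (b ≫ θ) ⟶ pullback q jo => f.left z₁) h2).trans hz₂⟩
  refine ⟨_, e₁, e₂, z, hE₁, hE₂, (pullback.lift_snd _ _ _).symm, hz₁, ?_⟩
  rw [← Scheme.Hom.comp_apply, ← Over.comp_left, pullback.lift_fst]
  exact hz₂

/-- A point property of the chart composite is saturated along the slice. -/
theorem saturated (h : IsFibGrpd 𝒳.p) (he : IsEquivOver e) (ω : (AlgSp.yon S).obj W ⟶ F)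
    (hωE : AlgSp.RepWith @Etale ω) (hωS : AlgSp.RepWith @Surjective ω) (p q : W ⟶ U)
    (hp : (AlgSp.yon S).map p = ω ≫ P e) (hq : (AlgSp.yon S).map q = ω ≫ Q e)
    [LocallyOfFiniteType p.left] [LocallyOfFiniteType q.left] [Flat q.left]
    {π : ∀ ⦃X Y : Scheme.{u}⦄, (X ⟶ Y) → X → Prop} (hπ : EtPtProp π)
    {Z : Scheme.{u}} (g : Z ⟶ U.left) (hfp : LocallyOfFinitePresentation (Limits.pullback.fst q.left g ≫ p.left))
    (x₁ x₂ : ↥(Limits.pullback q.left g)) (eqx : Limits.pullback.snd q.left g x₁ = Limits.pullback.snd q.left g x₂)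
    (hx : π (Limits.pullback.fst q.left g ≫ p.left) x₁) : π (Limits.pullback.fst q.left g ≫ p.left) x₂ := by
  let V : Over S := Over.mk (g ≫ U.hom)
  let jo : V ⟶ U := Over.homMk g
  have sq : IsPullback (pullback.fst q jo).left (pullback.snd q jo).left q.left g :=
    (IsPullback.of_hasPullback q jo).map (Over.forget S)
  let φ := sq.isoPullback
  have hkp : (pullback.fst q jo ≫ p).left = φ.hom ≫ Limits.pullback.fst q.left g ≫ p.left := by
    rw [Over.comp_left, ← sq.isoPullback_hom_fst, Category.assoc]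
  have hsnd : ∀ x, (pullback.snd q jo).left (φ.inv x) = Limits.pullback.snd q.left g x := fun x => by
    rw [← Scheme.Hom.comp_apply, sq.isoPullback_inv_snd]; rfl
  have hφ : ∀ x, φ.hom (φ.inv x) = x := fun x => by
    rw [← Scheme.Hom.comp_apply, φ.inv_hom_id]; rfl
  haveI := hfp
  have hfp' : LocallyOfFinitePresentation (pullback.fst q jo ≫ p).left := by rw [hkp]; infer_instance
  have iff₁ : ∀ x, π (pullback.fst q jo ≫ p).left (φ.inv x) ↔ π (Limits.pullback.fst q.left g ≫ p.left) x :=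
    fun x => by rw [hkp, hπ.etale_comp, hφ]
  obtain ⟨Y, e₁, e₂, z, hE₁, hE₂, hw, hz₁, hz₂⟩ :=
    exists_common_chart h he ω hωE hωS p q hp hq jo (φ.inv x₁) (φ.inv x₂) (by rw [hsnd, hsnd, eqx])
  have p₁ : IsPullback (pullback.fst (pullback.fst q jo ≫ p) p).left (pullback.snd (pullback.fst q jo ≫ p) p).left
      (pullback.fst q jo ≫ p).left p.left := (IsPullback.of_hasPullback _ p).map (Over.forget S)
  have p₂ : IsPullback (pullback.fst (pullback.fst q jo ≫ p) q).left (pullback.snd (pullback.fst q jo ≫ p) q).left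
      (pullback.fst q jo ≫ p).left q.left := (IsPullback.of_hasPullback _ q).map (Over.forget S)
  haveI : LocallyOfFiniteType (pullback.snd (pullback.fst q jo ≫ p) p).left :=
    MorphismProperty.of_isPullback (P := @LocallyOfFiniteType) p₁ inferInstance
  haveI : LocallyOfFiniteType (pullback.snd (pullback.fst q jo ≫ p) q).left :=
    MorphismProperty.of_isPullback (P := @LocallyOfFiniteType) p₂ inferInstance
  have h₁ := hπ.baseChange p₁ hfp' (e₁.left z) (by rw [hz₁]; exact (iff₁ x₁).2 hx)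
  have h₂ := (hπ.etale_comp e₁.left _ z).2 h₁
  rw [← Over.comp_left, hw, Over.comp_left, hπ.etale_comp] at h₂
  have h₃ := hπ.descend p₂ hfp' inferInstance (e₂.left z) h₂
  rw [hz₂] at h₃
  exact (iff₁ x₂).1 h₃

end Groth.Agent.Stk19b.QDMSlice
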