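import Groth.Agent.Stk19b.QDMSlice.Locus
import Groth.Agent.Stk19b.Fppf.Slice

/-!
# Quasi-finite flat slices of a groupoid quasi-finite over the product
-/

set_option autoImplicit false
set_option linter.style.haveILetI false
set_option backward.isDefEq.respectTransparency false
set_option backward.isDefEq.respectTransparency.types false

universe u

open CategoryTheory CategoryTheory.Limits AlgebraicGeometry

noncomputable section

namespace Groth.Agent.Stk19b.QDMSlice

variable {U W S₀ : Scheme.{u}} (p q : W ⟶ U) [Flat p] [LocallyOfFinitePresentation p]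
  [Flat q] [LocallyOfFinitePresentation q] (s : U ⟶ S₀) (hw : p ≫ s = q ≫ s)
  (hqf : LocallyQuasiFinite (pullback.lift p q hw)) (hsat : Saturated p q)

set_option maxHeartbeats 1600000 in
include hqf hsat in
theorem exists_slice_aux {W₀ : U.Opens} (hW : IsAffineOpen W₀) (𝔭 : Ideal Γ(U, W₀)) [𝔭.IsMaximal]
    (n : ℕ) : ∀ (Z : Scheme.{u}) (g : Z ⟶ U), IsAffine Z → Flat (τ p q g) →
      LocallyOfFinitePresentation (τ p q g) →
      ∀ (B : Type u) [CommRing B] [Algebra Γ(U, W₀) B] [Algebra.FinitePresentation Γ(U, W₀) B]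
        [Module.Flat Γ(U, W₀) B] (ι : Spec (CommRingCat.of B) ⟶ pullback q g),
        IsOpenImmersion ι →
        ι ≫ τ p q g = Spec.map (CommRingCat.ofHom (algebraMap Γ(U, W₀) B)) ≫ hW.fromSpec →
        Nontrivial (𝔭.Fiber B) → ringKrullDim (𝔭.Fiber B) ≤ n →
        ∃ (Z' : Scheme.{u}) (g' : Z' ⟶ U), Flat (τ p q g') ∧ LocallyOfFinitePresentation (τ p q g') ∧
          LocallyQuasiFinite (τ p q g') ∧ ∃ x, τ p q g' x = hW.fromSpec ⟨𝔭, inferInstance⟩ := by
  induction n using Nat.strong_induction_on with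
  | _ n ih =>
  intro Z g hZ hgf hgp B _ _ _ _ ι hι hιU hnt hdim
  let A := Γ(U, W₀)
  let tU := τ p q g
  let tZ := pullback.snd q g
  by_cases hmin : ∀ P ∈ minimalPrimes (𝔭.Fiber B), P.IsMaximal
  · -- zero-dimensional fibre
    have : Ring.KrullDimLE 0 (𝔭.Fiber B) := Ring.krullDimLE_zero_iff.2 fun I hI => by
      obtain ⟨P, hP, hPI⟩ := Ideal.exists_minimalPrimes_le (I := (⊥ : Ideal (𝔭.Fiber B))) (J := I) bot_le
      exact (hmin P hP).eq_of_le hI.ne_top hPI ▸ hmin P hP
    have : IsNoetherianRing (𝔭.Fiber B) := Algebra.FiniteType.isNoetherianRing 𝔭.ResidueField _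
    have : IsArtinianRing (𝔭.Fiber B) :=
      isArtinianRing_iff_isNoetherianRing_krullDimLE_zero.2 ⟨inferInstance, inferInstance⟩
    have : Module.Finite 𝔭.ResidueField (𝔭.Fiber B) := (Module.finite_iff_isArtinianRing _ _).2 inferInstance
    obtain ⟨Q⟩ : Nonempty (PrimeSpectrum (𝔭.Fiber B)) := inferInstance
    let qb := Q.asIdeal.comap Algebra.TensorProduct.includeRight.toRingHom
    have hlies : qb.LiesOver 𝔭 := ((PrimeSpectrum.primesOverOrderIsoFiber A B 𝔭).symm Q).2.2
    have := Algebra.QuasiFiniteAt.of_quasiFiniteAt_residueField 𝔭 qb Q.asIdeal rfl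
    obtain ⟨S', hS', r, hrq, hbij⟩ :=
      Algebra.QuasiFiniteAt.exists_fg_and_exists_notMem_and_awayMap_bijective (R := A) qb
    have : Module.Finite A S' := ⟨(Submodule.fg_top _).mpr hS'⟩
    have : Algebra.QuasiFinite A (Localization.Away r) := .trans _ S' _
    have : Algebra.QuasiFinite A (Localization.Away r.1) :=
      .of_surjective_algHom (Localization.awayMapₐ S'.val r) hbij.2
    let jr : Spec (CommRingCat.of (Localization.Away r.1)) ⟶ Spec (CommRingCat.of B) :=
      Spec.map (CommRingCat.ofHom (algebraMap B (Localization.Away r.1)))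
    have : IsOpenImmersion jr := IsOpenImmersion.of_isLocalization r.1
    have hqfc : LocallyQuasiFinite ((jr ≫ ι) ≫ tU) := by
      rw [Category.assoc, hιU, ← Category.assoc, ← Spec.map_comp]
      have : LocallyQuasiFinite (Spec.map (CommRingCat.ofHom (algebraMap A B) ≫
          CommRingCat.ofHom (algebraMap B (Localization.Away r.1)))) := by
        refine (HasRingHomProperty.Spec_iff (P := @LocallyQuasiFinite)).2 ?_
        rw [← CommRingCat.ofHom_comp, ← IsScalarTower.algebraMap_eq]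
        exact RingHom.quasiFinite_algebraMap.2 inferInstance
      have : LocallyQuasiFinite hW.fromSpec := inferInstance
      exact MorphismProperty.comp_mem @LocallyQuasiFinite _ _ ‹_› ‹_›
    obtain ⟨y₀, hy₀⟩ : (⟨qb, inferInstance⟩ : PrimeSpectrum B) ∈ Set.range jr := by
      rw [show (Set.range jr : Set (PrimeSpectrum B)) = PrimeSpectrum.basicOpen r.1 from
        PrimeSpectrum.localization_away_comap_range _ r.1]
      exact hrq
    let x : ↥(pullback q g) := (jr ≫ ι) y₀
    have hxq : tU.QuasiFiniteAt x :=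
      Scheme.Hom.quasiFiniteAt_comp_iff_of_isOpenImmersion.1 (((jr ≫ ι) ≫ tU).quasiFiniteAt y₀)
    have hxu : tU x = hW.fromSpec ⟨𝔭, inferInstance⟩ := by
      show ((jr ≫ ι) ≫ tU) y₀ = _
      rw [Category.assoc, hιU, Scheme.Hom.comp_apply, hy₀, Scheme.Hom.comp_apply]
      exact congrArg hW.fromSpec (PrimeSpectrum.ext hlies.over.symm)
    let D := locus p q _ etPtProp_quasiFinite g
    have : LocallyOfFinitePresentation D.ι := inferInstance
    have hlfp : LocallyOfFinitePresentation (τ p q (D.ι ≫ g)) := lfp_τ_comp p q g D.ι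
    obtain ⟨k, hk, ek⟩ := exists_isPullback_comp p q g D.ι
    have : IsOpenImmersion k := MorphismProperty.of_isPullback (P := @IsOpenImmersion) hk.flip inferInstance
    have hlqf : LocallyQuasiFinite (τ p q (D.ι ≫ g)) := (Scheme.Hom.quasiFiniteLocus_eq_top_iff _).1
      (TopologicalSpace.Opens.ext (Set.eq_univ_of_forall fun y =>
        prop_of_le_locus p q hsat etPtProp_quasiFinite g D.ι (fun z => z.2) y))
    refine ⟨_, D.ι ≫ g, by rw [← ek]; infer_instance, hlfp, hlqf, ?_⟩
    obtain ⟨x', hx'⟩ := exists_τ_point p q g D.ι x ⟨pullback.snd q g x, x, hxq, rfl⟩ rfl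
    exact ⟨x', hx'.trans hxu⟩
  · push Not at hmin
    obtain ⟨P, hP, hPm⟩ := hmin
    have hPp := hP.isPrime
    obtain ⟨g₀, f₀, m, hm, hgm, hf₀m, hf₀P, hgQ⟩ := FlatMorSlice.exists_cut 𝔭 P hP hPm
    let inc : B →+* 𝔭.Fiber B := Algebra.TensorProduct.includeRight.toRingHom
    have hincs : Function.Surjective inc := fun z => by
      obtain ⟨s, hs, b, hb⟩ := Ideal.Fiber.exists_smul_eq_one_tmul 𝔭 z
      obtain ⟨s', hs'⟩ : ∃ s', s * s' - 1 ∈ 𝔭 := by
        let _ := Ideal.Quotient.field 𝔭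
        obtain ⟨s', hs'⟩ := Ideal.Quotient.mk_surjective (Ideal.Quotient.mk 𝔭 s)⁻¹
        refine ⟨s', Ideal.Quotient.eq_zero_iff_mem.1 ?_⟩
        rw [map_sub, map_mul, map_one, hs', mul_inv_cancel₀, sub_self]
        exact fun e => hs (Ideal.Quotient.eq_zero_iff_mem.1 e)
      refine ⟨algebraMap A B s' * b, ?_⟩
      show Algebra.TensorProduct.includeRight _ = z
      rw [map_mul, AlgHom.commutes, show Algebra.TensorProduct.includeRight b = algebraMap A (𝔭.Fiber B) s * z by
        rw [← Algebra.smul_def, hb]; rfl, ← mul_assoc, ← map_mul, mul_comm s' s]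
      have : algebraMap A (𝔭.Fiber B) (s * s') = 1 := by
        rw [← sub_eq_zero, ← map_one (algebraMap A (𝔭.Fiber B)), ← map_sub,
          IsScalarTower.algebraMap_apply A 𝔭.ResidueField, Ideal.algebraMap_residueField_eq_zero.2 hs', map_zero]
      rw [this, one_mul]
    let mB := m.comap inc
    let PB := P.comap inc
    have : mB.IsMaximal := Ideal.comap_isMaximal_of_surjective inc hincs
    have hover : ∀ I : Ideal (𝔭.Fiber B), I.IsPrime → (I.comap inc).comap (algebraMap A B) = 𝔭 := fun I hI =>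
      ((PrimeSpectrum.primesOverOrderIsoFiber A B 𝔭).symm ⟨I, hI⟩).2.2.over.symm
    -- the other projection
    let C := Γ(Z, ⊤)
    let χ : C ⟶ CommRingCat.of B := Spec.preimage (ι ≫ tZ ≫ Z.isoSpec.hom)
    have hχ : ι ≫ tZ = Spec.map χ ≫ Z.isoSpec.inv := by
      rw [Spec.map_preimage]; simp
    letI : Algebra C B := χ.hom.toAlgebra
    haveI : Algebra.FiniteType C B := by
      have h : LocallyOfFiniteType (Spec.map χ) := by
        rw [Spec.map_preimage]; infer_instance
      exact RingHom.finiteType_algebraMap.1 ((HasRingHomProperty.Spec_iff (P := @LocallyOfFiniteType)).1 h)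
    have : LocallyQuasiFinite ι := inferInstance
    obtain ⟨R, iR, ρ, hρ, hgen⟩ := exists_quasiFinite_tensor p q s hw hqf g (algebraMap A B) (algebraMap C B)
      hW.fromSpec Z.isoSpec.inv ι hιU hχ
    -- an element from the other factor
    have hPlem : P ≤ m := by
      have : IsNoetherianRing (𝔭.Fiber B) := Algebra.FiniteType.isNoetherianRing 𝔭.ResidueField _
      obtain ⟨P', hP', hP'le⟩ := Ideal.exists_minimalPrimes_le (I := (⊥ : Ideal (𝔭.Fiber B))) (J := m) bot_le
      have hass : P' ∈ associatedPrimes (𝔭.Fiber B) (𝔭.Fiber B) :=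
        Module.associatedPrimes.minimalPrimes_annihilator_subset_associatedPrimes (𝔭.Fiber B)
          (𝔭.Fiber B) (by
            rw [show Module.annihilator (𝔭.Fiber B) (𝔭.Fiber B) = ⊥ from
              Module.annihilator_eq_bot.2 inferInstance]
            exact hP')
      exact (by_contra fun h => hgm (hP'le (hgQ P' hass h)) : P' = P) ▸ hP'le
    obtain ⟨f, hfm, hfP⟩ : ∃ f : C, algebraMap C B f ∈ mB ∧ algebraMap C B f ∉ PB := by
      by_contra! h
      haveI : (mB.comap (algebraMap A B)).IsMaximal := by rw [hover m hm.isPrime]; infer_instance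
      have hle : PB ≤ mB := Ideal.comap_mono hPlem
      have hPA : PB.comap (algebraMap A B) = mB.comap (algebraMap A B) := by
        rw [hover P hPp, hover m hm.isPrime]
      have e := eq_of_le_of_quasiFinite ρ hρ hgen PB mB hle hPA
        (le_antisymm (Ideal.comap_mono hle) fun c hc => h c hc)
      exact hPm ((Ideal.comap_injective_of_surjective inc hincs e : P = m) ▸ hm)
    let fB : B := algebraMap C B f
    -- flatness of the cut at `mB`
    let r : PrimeSpectrum B := ⟨mB, inferInstance⟩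
    have hinj := FlatMorSlice.fibInjAt_cut 𝔭 P (f := fB) hfP hgQ r (hover m hm.isPrime) hgm
    let mk₁ : B →+* B ⧸ Ideal.span {fB} := Ideal.Quotient.mk _
    let r' : Ideal (B ⧸ Ideal.span {fB}) := mB.map mk₁
    have hle : Ideal.span {fB} ≤ mB := (Ideal.span_singleton_le_iff_mem _).2 hfm
    have : r'.IsPrime := Ideal.map_isPrime_of_surjective Ideal.Quotient.mk_surjective
      (by rwa [Ideal.mk_ker])
    have hr' : r'.comap mk₁ = mB := by
      rw [Ideal.comap_map_of_surjective _ Ideal.Quotient.mk_surjective, ← RingHom.ker_eq_comap_bot,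
        Ideal.mk_ker, sup_eq_left.2 hle]
    have := Algebra.FinitePresentation.quotient (R := A) (Submodule.fg_span_singleton fB)
    have hgr' : mk₁ g₀ ∉ r' := fun h => hgm (by
      have h' : g₀ ∈ r'.comap mk₁ := h
      rwa [hr'] at h')
    obtain ⟨c', hc', hflat⟩ := FlatMorSlice.exists_away_flat r' (FlatMorSlice.flat_localized_cut fB r hinj r' hr') hgr'
    let e₁ := c' * mk₁ g₀
    -- the closed subscheme of `Z`
    let C₁ : CommRingCat := CommRingCat.of (C ⧸ Ideal.span {f})
    let mkC : C ⟶ C₁ := CommRingCat.ofHom (Ideal.Quotient.mk _)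
    let χ₁ : C₁ ⟶ CommRingCat.of (B ⧸ Ideal.span {fB}) := CommRingCat.ofHom
      (Ideal.quotientMap (Ideal.span {fB}) χ.hom (by
        rw [Ideal.span_le, Set.singleton_subset_iff]; exact Ideal.subset_span rfl))
    let l₁ := Spec.map mkC ≫ Z.isoSpec.inv
    have : LocallyOfFinitePresentation (Spec.map mkC) :=
      (HasRingHomProperty.Spec_iff (P := @LocallyOfFinitePresentation)).2
        (RingHom.FinitePresentation.of_surjective _ Ideal.Quotient.mk_surjective
          (by rw [CommRingCat.hom_ofHom, Ideal.mk_ker]; exact Submodule.fg_span_singleton f))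
    have : LocallyOfFinitePresentation l₁ := inferInstanceAs (LocallyOfFinitePresentation (_ ≫ _))
    let g₁ := l₁ ≫ g
    have hg₁p : LocallyOfFinitePresentation (τ p q g₁) := lfp_τ_comp p q g l₁
    obtain ⟨k₁, hk₁, hk₁U⟩ := exists_isPullback_comp p q g l₁
    let tU₁ := τ p q g₁
    let tZ₁ : pullback q g₁ ⟶ Spec C₁ := pullback.snd q g₁
    let mkB : CommRingCat.of B ⟶ CommRingCat.of (B ⧸ Ideal.span {fB}) := CommRingCat.ofHom mk₁
    have sqB : IsPullback (Spec.map mkB) (Spec.map χ₁) (Spec.map χ ≫ Z.isoSpec.inv) l₁ := by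
      have h := (isPullback_SpecMap_of_isPushout _ _ _ _ (Fppf.quotient_isPushout χ.hom f)).flip
      have h2 := h.paste_vert (IsPullback.of_vert_isIso (fst := Spec.map mkC) (snd := 𝟙 _)
        (f := Z.isoSpec.inv) (g := l₁) ⟨by simp [l₁]⟩)
      rwa [Category.comp_id] at h2
    let ι₁ : Spec (CommRingCat.of (B ⧸ Ideal.span {fB})) ⟶ pullback q g₁ :=
      hk₁.lift (Spec.map mkB ≫ ι) (Spec.map χ₁) (by
        rw [Category.assoc, hχ]; exact sqB.w)
    have hι₁k : ι₁ ≫ k₁ = Spec.map mkB ≫ ι := hk₁.lift_fst _ _ _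
    have hι₁Z : ι₁ ≫ tZ₁ = Spec.map χ₁ := hk₁.lift_snd _ _ _
    have sqι : IsPullback (Spec.map mkB) ι₁ ι k₁ := by
      refine IsPullback.of_bot ?_ hι₁k.symm hk₁.flip.flip
      rw [hι₁Z, hχ]; exact sqB
    have : IsOpenImmersion ι₁ := MorphismProperty.of_isPullback (P := @IsOpenImmersion) sqι ‹IsOpenImmersion ι›
    have hι₁U : ι₁ ≫ tU₁ = Spec.map (CommRingCat.ofHom (algebraMap A (B ⧸ Ideal.span {fB}))) ≫ hW.fromSpec := by
      rw [show tU₁ = k₁ ≫ tU from hk₁U.symm, reassoc_of% hι₁k, show ι ≫ tU = _ from hιU, ← Spec.map_comp_assoc]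
      rfl
    -- a point of the flat locus
    let je : Spec (CommRingCat.of (Localization.Away e₁)) ⟶ Spec (CommRingCat.of (B ⧸ Ideal.span {fB})) :=
      Spec.map (CommRingCat.ofHom (algebraMap (B ⧸ Ideal.span {fB}) (Localization.Away e₁)))
    have : IsOpenImmersion je := IsOpenImmersion.of_isLocalization e₁
    have hFl : Flat ((je ≫ ι₁) ≫ tU₁) := by
      rw [Category.assoc, hι₁U, ← Category.assoc, ← Spec.map_comp]
      have : Flat (Spec.map (CommRingCat.ofHom (algebraMap A (B ⧸ Ideal.span {fB})) ≫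
          CommRingCat.ofHom (algebraMap (B ⧸ Ideal.span {fB}) (Localization.Away e₁)))) := by
        refine (HasRingHomProperty.Spec_iff (P := @Flat)).2 ?_
        rw [← CommRingCat.ofHom_comp, ← IsScalarTower.algebraMap_eq]
        exact RingHom.flat_algebraMap_iff.2 hflat
      exact MorphismProperty.comp_mem @Flat _ _ this inferInstance
    let y₁ : Spec (CommRingCat.of (B ⧸ Ideal.span {fB})) := ⟨r', inferInstance⟩
    obtain ⟨y₀, hy₀⟩ : y₁ ∈ Set.range je := by
      rw [show (Set.range je : Set (PrimeSpectrum (B ⧸ Ideal.span {fB}))) = PrimeSpectrum.basicOpen e₁ from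
        PrimeSpectrum.localization_away_comap_range _ e₁]
      exact hc'
    have hx₁ : (tU₁.stalkMap ((je ≫ ι₁) y₀)).hom.Flat :=
      (Desc19b.flat_stalkMap_comp_iff (je ≫ ι₁) tU₁ y₀ (Flat.stalkMap _ _)).1 (Flat.stalkMap _ _)
    let D := locus p q _ etPtProp_flat g₁
    let v₁ : Spec C₁ := Spec.map χ₁ y₁
    have hv₁ : v₁ ∈ (D.carrier : Set (Spec C₁)) := ⟨(je ≫ ι₁) y₀, hx₁, by
      show tZ₁ ((je ≫ ι₁) y₀) = v₁
      rw [Scheme.Hom.comp_apply, hy₀, ← Scheme.Hom.comp_apply, hι₁Z]⟩
    obtain ⟨_, ⟨_, ⟨c, rfl⟩, rfl⟩, hvc, hcD⟩ :=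
      PrimeSpectrum.isBasis_basic_opens.exists_subset_of_mem_open hv₁ D.isOpen
    -- the new slice
    let C₂ : CommRingCat := CommRingCat.of (Localization.Away c)
    let locC : C₁ ⟶ C₂ := CommRingCat.ofHom (algebraMap _ _)
    have : IsOpenImmersion (Spec.map locC) := IsOpenImmersion.of_isLocalization c
    let g₂ := Spec.map locC ≫ g₁
    have hg₂p : LocallyOfFinitePresentation (τ p q g₂) := lfp_τ_comp p q g₁ (Spec.map locC)
    have hg₂f : Flat (τ p q g₂) := Flat.of_stalkMap _ fun x =>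
      prop_of_le_locus p q hsat etPtProp_flat g₁ (Spec.map locC) (fun z => hcD (by
        show Spec.map locC z ∈ _
        rw [← show (Set.range (Spec.map locC) : Set (PrimeSpectrum C₁)) = PrimeSpectrum.basicOpen c from
          PrimeSpectrum.localization_away_comap_range _ c]
        exact Set.mem_range_self z)) x
    let e := e₁ * χ₁.hom c
    let B₂ := Localization.Away e
    have hcu : IsUnit (((algebraMap (B ⧸ Ideal.span {fB}) B₂).comp χ₁.hom) c) :=
      isUnit_of_mul_isUnit_right (x := algebraMap _ B₂ e₁) (by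
        rw [RingHom.comp_apply, ← map_mul]; exact IsLocalization.Away.algebraMap_isUnit e)
    obtain ⟨χ₂, hχ₂'⟩ := Fppf.exists_away_lift ((algebraMap (B ⧸ Ideal.span {fB}) B₂).comp χ₁.hom) c hcu
    have hχ₂ : Spec.map χ₂ ≫ Spec.map locC =
        Spec.map (CommRingCat.ofHom (algebraMap (B ⧸ Ideal.span {fB}) B₂)) ≫ Spec.map χ₁ :=
      (Spec.map_comp _ _).symm.trans ((congrArg (fun k => Spec.map k) hχ₂').trans (Spec.map_comp χ₁ _))
    let jB : Spec (CommRingCat.of B₂) ⟶ Spec (CommRingCat.of (B ⧸ Ideal.span {fB})) :=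
      Spec.map (CommRingCat.ofHom (algebraMap (B ⧸ Ideal.span {fB}) B₂))
    have : IsOpenImmersion jB := IsOpenImmersion.of_isLocalization e
    obtain ⟨k₂, hk₂, hk₂U⟩ := exists_isPullback_comp p q g₁ (Spec.map locC)
    let ι₂ : Spec (CommRingCat.of B₂) ⟶ pullback q g₂ :=
      hk₂.lift (jB ≫ ι₁) (Spec.map χ₂) (by
        rw [Category.assoc, show ι₁ ≫ pullback.snd q g₁ = _ from hι₁Z]; exact hχ₂.symm)
    have hι₂k : ι₂ ≫ k₂ = jB ≫ ι₁ := hk₂.lift_fst _ _ _
    have : IsOpenImmersion k₂ := MorphismProperty.of_isPullback (P := @IsOpenImmersion) hk₂.flip ‹_›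
    have : IsOpenImmersion (ι₂ ≫ k₂) := by rw [hι₂k]; infer_instance
    have hιo : IsOpenImmersion ι₂ := IsOpenImmersion.of_comp ι₂ k₂
    have hι₂U : ι₂ ≫ τ p q g₂ = Spec.map (CommRingCat.ofHom (algebraMap A B₂)) ≫ hW.fromSpec := by
      rw [← show k₂ ≫ tU₁ = τ p q g₂ from hk₂U, reassoc_of% hι₂k, hι₁U, ← Spec.map_comp_assoc]
      rfl
    have : Algebra.FinitePresentation A B₂ := by
      have := IsLocalization.Away.finitePresentation e (S := B₂)
      exact .trans A (B ⧸ Ideal.span {fB}) _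
    have : Module.Flat A B₂ := by
      let y := algebraMap (B ⧸ Ideal.span {fB}) (Localization.Away e₁) (χ₁.hom c)
      have : IsLocalization.Away e (Localization.Away y) := inferInstanceAs (IsLocalization.Away (e₁ * χ₁.hom c) _)
      have : Module.Flat (Localization.Away e₁) (Localization.Away y) := IsLocalization.flat _ (Submonoid.powers y)
      have : Module.Flat A (Localization.Away y) := Module.Flat.trans A (Localization.Away e₁) _
      exact Module.Flat.of_linearEquiv
        ((IsLocalization.algEquiv (Submonoid.powers e) B₂ (Localization.Away y)).restrictScalars A).toLinearEquiv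
    -- a prime of `B₂` over `𝔭`
    let ψ : B →ₐ[A] B₂ :=
      (IsScalarTower.toAlgHom A (B ⧸ Ideal.span {fB}) B₂).comp (Ideal.Quotient.mkₐ A _)
    have hψ : ∀ I J : Ideal B₂, I.IsPrime → J.IsPrime →
        I.comap ψ.toRingHom ≤ J.comap ψ.toRingHom → I ≤ J := fun I J _ _ h => by
      rw [← IsLocalization.map_under (Submonoid.powers e) B₂ I,
        ← IsLocalization.map_under (Submonoid.powers e) B₂ J]
      refine Ideal.map_mono fun x hx => ?_
      obtain ⟨b, rfl⟩ := Ideal.Quotient.mk_surjective x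
      exact h hx
    obtain ⟨φ, hφ, hφmem⟩ := FlatMorSlice.exists_fiberSpec_map ψ hψ 𝔭
    have her : e ∉ r' := fun h => ((inferInstance : r'.IsPrime).mem_or_mem h).elim hc' hvc
    have hdis : Disjoint (Submonoid.powers e : Set (B ⧸ Ideal.span {fB})) r' := by
      rw [Set.disjoint_left]
      rintro _ ⟨k, rfl⟩ hk
      exact her (Ideal.IsPrime.mem_of_pow_mem inferInstance k hk)
    let qC : 𝔭.primesOver B₂ := ⟨r'.map (algebraMap _ B₂),
      IsLocalization.isPrime_of_isPrime_disjoint (Submonoid.powers e) _ _ inferInstance hdis, ⟨by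
        rw [Ideal.under_def, IsScalarTower.algebraMap_eq A (B ⧸ Ideal.span {fB}) B₂, ← Ideal.comap_comap,
          ← Ideal.under_def (B ⧸ Ideal.span {fB}), IsLocalization.under_map_of_isPrime_disjoint (Submonoid.powers e) _ inferInstance hdis]
        exact (hover m hm.isPrime).symm.trans (by
          show mB.comap (algebraMap A B) = _
          rw [← hr', Ideal.comap_comap]
          rfl)⟩⟩
    have hntC : Nontrivial (𝔭.Fiber B₂) :=
      PrimeSpectrum.nonempty_iff_nontrivial.1 ⟨PrimeSpectrum.primesOverOrderIsoFiber A B₂ 𝔭 qC⟩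
    have hf0 : ψ fB = 0 := by
      show algebraMap (B ⧸ Ideal.span {fB}) B₂ (Ideal.Quotient.mk _ fB) = 0
      rw [Ideal.Quotient.eq_zero_iff_mem.2 (Ideal.mem_span_singleton_self fB), map_zero]
    have hg1 : IsUnit (ψ g₀) := by
      have h := IsLocalization.Away.algebraMap_isUnit (S := B₂) e
      simp only [e, e₁, map_mul] at h
      exact isUnit_of_mul_isUnit_right (isUnit_of_mul_isUnit_left h)
    have hdrop : ∀ l : LTSeries (PrimeSpectrum (𝔭.Fiber B₂)),
        ((l.length + 1 : ℕ) : WithBot ℕ∞) ≤ ringKrullDim (𝔭.Fiber B) := fun l => by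
      have : IsNoetherianRing (𝔭.Fiber B) := Algebra.FiniteType.isNoetherianRing 𝔭.ResidueField _
      let l' := l.map φ hφ
      obtain ⟨P', hP', hP'le⟩ := Ideal.exists_minimalPrimes_le
        (I := (⊥ : Ideal (𝔭.Fiber B))) (J := l'.head.asIdeal) bot_le
      have hgP' : Algebra.TensorProduct.includeRight g₀ ∉ P' := fun h => by
        have h' := (hφmem l.head g₀).1 (hP'le h)
        exact l.head.2.ne_top (Ideal.eq_top_of_isUnit_mem _ h' (hg1.map _))
      have hP'ass : P' ∈ associatedPrimes (𝔭.Fiber B) (𝔭.Fiber B) :=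
        Module.associatedPrimes.minimalPrimes_annihilator_subset_associatedPrimes (𝔭.Fiber B)
          (𝔭.Fiber B) (by
            rw [show Module.annihilator (𝔭.Fiber B) (𝔭.Fiber B) = ⊥ from
              Module.annihilator_eq_bot.2 inferInstance]
            exact hP')
      have hP'P : P' = P := by_contra fun h => hgP' (hgQ P' hP'ass h)
      have hlt : (⟨P', hP'.1.1⟩ : PrimeSpectrum (𝔭.Fiber B)) < l'.head := by
        refine lt_of_le_not_ge hP'le fun hle' => hfP ?_
        have hf' := (hφmem l.head fB).2 (by rw [hf0, map_zero]; exact zero_mem _)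
        show Algebra.TensorProduct.includeRight fB ∈ P
        rw [← hP'P]
        exact hle' hf'
      refine le_of_eq_of_le ?_ (Order.LTSeries.length_le_krullDim (RelSeries.cons l' ⟨P', hP'.1.1⟩ hlt))
      rw [RelSeries.cons_length]
      rfl
    cases n with
    | zero =>
      exfalso
      have := (hdrop (RelSeries.singleton _ (PrimeSpectrum.primesOverOrderIsoFiber A B₂ 𝔭 qC))).trans hdim
      simp at this
      norm_num at this
    | succ k =>
      have hdimC : ringKrullDim (𝔭.Fiber B₂) ≤ k := iSup_le fun l => by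
        have h := (hdrop l).trans hdim
        norm_cast at h ⊢
        omega
      exact ih k (Nat.lt_succ_self k) _ g₂ (inferInstanceAs (IsAffine (Spec C₂))) hg₂f hg₂p B₂ ι₂ hιo hι₂U hntC hdimC

include hqf hsat in
/-- every locally closed point has a flat quasi-finite slice over it -/
theorem exists_slice {W₀ : U.Opens} (hW : IsAffineOpen W₀) (𝔭 : Ideal Γ(U, W₀)) [𝔭.IsMaximal]
    (hpt : ∀ u : U, ∃ w : W, p w = u) :
    ∃ (Z' : Scheme.{u}) (g' : Z' ⟶ U), Flat (τ p q g') ∧ LocallyOfFinitePresentation (τ p q g') ∧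
      LocallyQuasiFinite (τ p q g') ∧ ∃ x, τ p q g' x = hW.fromSpec ⟨𝔭, inferInstance⟩ := by
  let u : U := hW.fromSpec ⟨𝔭, inferInstance⟩
  obtain ⟨w, hwu⟩ := hpt u
  obtain ⟨_, ⟨Z₀, hZ₀' , rfl⟩, hwZ, -⟩ :=
    U.isBasis_affineOpens.exists_subset_of_mem_open (show q w ∈ (⊤ : U.Opens) from trivial) (⊤ : U.Opens).isOpen
  have hZ₀ : IsAffineOpen (X := U) Z₀ := hZ₀'
  have : IsAffine (Scheme.Opens.toScheme (X := U) Z₀) := hZ₀
  have : Flat (τ p q (Scheme.Opens.ι (X := U) Z₀)) := inferInstanceAs (Flat (pullback.fst q (Scheme.Opens.ι (X := U) Z₀) ≫ p))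
  have : LocallyOfFinitePresentation (τ p q (Scheme.Opens.ι (X := U) Z₀)) :=
    inferInstanceAs (LocallyOfFinitePresentation (pullback.fst q (Scheme.Opens.ι (X := U) Z₀) ≫ p))
  obtain ⟨x₀, hx₀, -⟩ := Boot.exists_preimage (IsPullback.of_hasPullback q (Scheme.Opens.ι (X := U) Z₀)) w ⟨q w, hwZ⟩ rfl
  let tU := τ p q (Scheme.Opens.ι (X := U) Z₀)
  have hx₀' : tU x₀ = u := by
    show (pullback.fst q (Scheme.Opens.ι (X := U) Z₀) ≫ p) x₀ = u
    rw [Scheme.Hom.comp_apply, hx₀, hwu]
  have huW : u ∈ W₀ := by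
    rw [← SetLike.mem_coe, ← hW.range_fromSpec]; exact Set.mem_range_self _
  obtain ⟨_, ⟨V, (hV : IsAffineOpen V), rfl⟩, hxV, (hVW : V ≤ tU ⁻¹ᵁ W₀)⟩ :=
    (pullback q (Scheme.Opens.ι (X := U) Z₀)).isBasis_affineOpens.exists_subset_of_mem_open
      (show x₀ ∈ tU ⁻¹ᵁ W₀ by show tU x₀ ∈ W₀; rw [hx₀']; exact huW) (tU ⁻¹ᵁ W₀).isOpen
  let φ := tU.appLE W₀ V hVW
  algebraize [φ.hom]
  have : Algebra.FinitePresentation Γ(U, W₀) Γ(pullback q (Scheme.Opens.ι (X := U) Z₀), V) :=
    LocallyOfFinitePresentation.finitePresentation_appLE tU hW hV hVW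
  have : Module.Flat Γ(U, W₀) Γ(pullback q (Scheme.Opens.ι (X := U) Z₀), V) := Flat.flat_appLE tU hW hV hVW
  let qp := hV.primeIdealOf ⟨x₀, hxV⟩
  have hqp' : qp.asIdeal.LiesOver 𝔭 := ⟨by
    have h := IsAffineOpen.comap_primeIdealOf_appLE W₀ hW V hV hVW hxV
    have h2 : hW.primeIdealOf ⟨tU x₀, hVW hxV⟩ = ⟨𝔭, inferInstance⟩ := by
      apply hW.fromSpec.isOpenEmbedding.injective
      rw [hW.fromSpec_primeIdealOf]
      exact hx₀'
    exact ((congrArg PrimeSpectrum.asIdeal (h.trans h2))).symm⟩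
  have hnt : Nontrivial (𝔭.Fiber Γ(pullback q (Scheme.Opens.ι (X := U) Z₀), V)) := PrimeSpectrum.nonempty_iff_nontrivial.1
    ⟨PrimeSpectrum.primesOverOrderIsoFiber _ _ 𝔭 ⟨qp.asIdeal, inferInstance, hqp'⟩⟩
  obtain ⟨n, π, hπ⟩ := Algebra.FiniteType.iff_quotient_mvPolynomial''.1
    (inferInstance : Algebra.FiniteType 𝔭.ResidueField (𝔭.Fiber Γ(pullback q (Scheme.Opens.ι (X := U) Z₀), V)))
  refine exists_slice_aux p q s hw hqf hsat hW 𝔭 n _ (Scheme.Opens.ι (X := U) Z₀) inferInstance ‹_› ‹_› _ hV.fromSpec inferInstance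
    (hW.SpecMap_appLE_fromSpec tU hV hVW).symm hnt ((ringKrullDim_le_of_surjective π.toRingHom hπ).trans ?_)
  rw [MvPolynomial.ringKrullDim_of_isNoetherianRing, ringKrullDim_eq_zero_of_field, zero_add, Nat.card_fin]

end Groth.Agent.Stk19b.QDMSlice
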